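import Mathlib
import Cfsg.Agent.Lib.Classical.Unitary.Field

/-!
# Generation facts for the parameters of the short presentation of `SU₃`
-/

set_option autoImplicit false

open Polynomial

namespace CfsgLib.Known.SU3Bounded

variable {F : Type*} [Field F] [Finite F] {p : ℕ} [Fact p.Prime] [Algebra (ZMod p) F] {σ : F →+* F}

/-- the action of the torus generator on the first coordinate -/
def kap (σ : F →+* F) (ω : Fˣ) : Fˣ := ω ^ 2 * (Units.map (σ : F →* F) ω)⁻¹

/-- the action of the torus generator on the centre -/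
def nu (σ : F →+* F) (ω : Fˣ) : Fˣ := ω * Units.map (σ : F →* F) ω

omit [Finite F] in
theorem coe_kap (ω : Fˣ) : (kap σ ω : F) = (ω : F) ^ 2 / σ ω := by
  simp [kap, div_eq_mul_inv]

omit [Finite F] in
theorem coe_nu (ω : Fˣ) : (nu σ ω : F) = (ω : F) * σ ω := rfl

omit [Finite F] in
theorem kap_zpow (σ : F →+* F) (t : Fˣ) (n : ℤ) : kap σ (t ^ n) = kap σ t ^ n := by
  rw [kap, kap, map_zpow, mul_zpow, inv_zpow, ← zpow_natCast, ← zpow_natCast, ← _root_.zpow_mul, ← _root_.zpow_mul,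
    mul_comm n]

omit [Finite F] in
/-- the subfield generated by an element consists of the values of polynomials at it -/
theorem exists_field [Finite F] (z : F) : ∃ E : IntermediateField (ZMod p) F,
    z ∈ E ∧ ∀ x ∈ E, ∃ P : (ZMod p)[X], aeval z P = x :=
  ⟨(aeval (R := ZMod p) z).range.toIntermediateField' (Finite.isField_of_domain _),
    ⟨X, aeval_X z⟩, fun _ hx => hx⟩

/-- a proper subfield has at most `√|F|` elements -/
theorem card_le_of_ne_top (hσ : Classical.Herm.IsInvol σ) {E : IntermediateField (ZMod p) F} (hE : E ≠ ⊤) :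
    Nat.card E ≤ Nat.card (Classical.Herm.fixedSub σ) := by
  have h1 : Nat.card F = Nat.card E ^ Module.finrank E F := Module.natCard_eq_pow_finrank
  have h2 : 2 ≤ Module.finrank E F := by
    by_contra h
    have h0 : 0 < Module.finrank E F := Module.finrank_pos
    exact hE (IntermediateField.finrank_eq_one_iff_eq_top.1 (by omega))
  rw [hσ.card_sq] at h1
  have h3 : Nat.card E ^ 2 ≤ Nat.card E ^ Module.finrank E F := Nat.pow_le_pow_right Nat.card_pos h2
  rw [← h1] at h3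
  exact (Nat.pow_le_pow_iff_left two_ne_zero).1 h3

omit [Finite F] in
theorem pow_card_sub_one [Finite F] {E : IntermediateField (ZMod p) F} {z : Fˣ} (hz : (z : F) ∈ E) :
    z ^ (Nat.card E - 1) = 1 := by
  let _ : Fintype E := Fintype.ofFinite E
  have h : (⟨(z : F), hz⟩ : E) ≠ 0 := fun e => z.ne_zero (congrArg Subtype.val e)
  refine Units.ext ?_
  have := congrArg Subtype.val (FiniteField.pow_card_sub_one_eq_one _ h)
  rw [Nat.card_eq_fintype_card, Units.val_pow_eq_pow_val, Units.val_one]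
  simpa using this

variable (hσ : Classical.Herm.IsInvol σ) {ω : Fˣ} (hcyc : ∀ x : Fˣ, x ∈ Subgroup.zpowers ω)
  {q : ℕ} (hq : Nat.card (Classical.Herm.fixedSub σ) = q)
include hσ hcyc hq

omit [Fact p.Prime] [Algebra (ZMod p) F] in
theorem orderOf_omega : orderOf ω = q ^ 2 - 1 := by
  rw [orderOf_eq_card_of_forall_mem_zpowers hcyc, Nat.card_units, hσ.card_sq, hq]

omit [Fact p.Prime] [Algebra (ZMod p) F] in
theorem dvd_of_pow_eq_one {k : ℕ} (h : ω ^ k = 1) : q ^ 2 - 1 ∣ k :=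
  orderOf_omega hσ hcyc hq ▸ orderOf_dvd_of_pow_eq_one h

omit [Fact p.Prime] [Algebra (ZMod p) F] hcyc in
theorem map_omega : Units.map (σ : F →* F) ω = ω ^ q := by
  refine Units.ext ?_
  rw [Units.coe_map, Units.val_pow_eq_pow_val, ← hq]
  exact hσ.apply_eq_pow _

omit [Fact p.Prime] [Algebra (ZMod p) F] hcyc in
theorem two_le : 2 ≤ q := hq ▸ Classical.Herm.IsInvol.card_ge_two

omit [Fact p.Prime] [Algebra (ZMod p) F] in
theorem kap_pow : kap σ ω ^ (q + 2) = ω ^ 3 := by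
  have hω : ω ^ (q ^ 2 - 1) = 1 := by rw [← orderOf_omega hσ hcyc hq, pow_orderOf_eq_one]
  rw [kap, map_omega hσ hq, mul_pow, inv_pow, mul_inv_eq_iff_eq_mul, ← pow_mul, ← pow_mul, ← pow_add]
  have h2 := two_le hσ hq
  obtain ⟨Q, hQ⟩ : ∃ Q, q ^ 2 = Q + 1 := ⟨q ^ 2 - 1, by have : 4 ≤ q ^ 2 := by nlinarith
                                                        omega⟩
  rw [hQ, Nat.add_sub_cancel] at hω
  rw [show 3 + q * (q + 2) = 2 * (q + 2) + Q by nlinarith, pow_add, hω, mul_one]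

omit [Fact p.Prime] [Algebra (ZMod p) F] hcyc in
theorem nu_eq : nu σ ω = ω ^ (q + 1) := by rw [nu, map_omega hσ hq, pow_succ']

omit [Fact p.Prime] [Algebra (ZMod p) F] in
theorem fixed_eq_pow {u : F} (hu : σ u = u) (h0 : u ≠ 0) : ∃ k : ℕ, (nu σ ω : F) ^ k = u := by
  obtain ⟨x, hx⟩ := hσ.exists_norm_eq hu
  have hx0 : x ≠ 0 := by rintro rfl; rw [zero_mul] at hx; exact h0 hx.symm
  obtain ⟨k, hk⟩ : ∃ k : ℕ, ω ^ k = Units.mk0 x hx0 := mem_powers_iff_mem_zpowers.2 (hcyc _)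
  refine ⟨k, ?_⟩
  rw [coe_nu, mul_pow, ← map_pow, ← Units.val_pow_eq_pow_val, hk, Units.val_mk0, hx]

theorem exists_nu_poly {u : F} (hu : σ u = u) : ∃ P : (ZMod p)[X], aeval (nu σ ω : F) P = u := by
  rcases eq_or_ne u 0 with rfl | h0
  · exact ⟨0, map_zero _⟩
  obtain ⟨k, hk⟩ := fixed_eq_pow hσ hcyc hq hu h0
  exact ⟨X ^ k, by rw [map_pow, aeval_X, hk]⟩

omit [Fact p.Prime] [Algebra (ZMod p) F] in
theorem kap_not_fixed (h3 : 3 ≤ q) : σ (kap σ ω : F) ≠ kap σ ω := fun e => by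
  have e1 : Units.map (σ : F →* F) (kap σ ω) = kap σ ω := Units.ext e
  have e2 : Units.map (σ : F →* F) (ω ^ 3) = ω ^ 3 := by rw [← kap_pow hσ hcyc hq, map_pow, e1]
  rw [map_pow, map_omega hσ hq, ← pow_mul] at e2
  have h1 : ω ^ (3 * (q - 1)) = 1 := mul_right_cancel (b := ω ^ 3) (by
    rw [← pow_add, one_mul, show 3 * (q - 1) + 3 = q * 3 by omega]
    exact e2)
  have h2 := Nat.le_of_dvd (by omega) (dvd_of_pow_eq_one hσ hcyc hq h1)
  have h4 : 3 * q ≤ q ^ 2 := by nlinarith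
  omega

theorem exists_kap_poly (h3 : 3 ≤ q) (u : F) : ∃ P : (ZMod p)[X], aeval (kap σ ω : F) P = u := by
  obtain ⟨E, hkE, hE⟩ := exists_field (p := p) (kap σ ω : F)
  refine hE u ?_
  suffices E = ⊤ from this ▸ IntermediateField.mem_top
  by_contra hne
  have hle := card_le_of_ne_top hσ hne
  rw [hq] at hle
  have h1 : ω ^ (3 * (Nat.card E - 1)) = 1 := by
    rw [pow_mul, ← kap_pow hσ hcyc hq, ← pow_mul, mul_comm, pow_mul, pow_card_sub_one hkE, one_pow]
  have h0 : 1 < Nat.card E := Finite.one_lt_card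
  have h2 := Nat.le_of_dvd (by omega) (dvd_of_pow_eq_one hσ hcyc hq h1)
  have h4 : 3 * q ≤ q ^ 2 := by nlinarith
  omega

theorem exists_rho_poly (h3 : 3 ≤ q) (u : F) : ∃ P : Fin 3 → (ZMod p)[X],
    u = ∑ i : Fin 3, aeval ((kap σ ω : F) ^ (q - 1)) (P i) * (kap σ ω : F) ^ (i : ℕ) := by
  obtain ⟨E, hrE, hE⟩ := exists_field (p := p) ((kap σ ω : F) ^ (q - 1))
  have hd : Module.finrank E F ≤ 3 := by
    by_contra h
    have hk : (kap σ ω ^ (q - 1)) ^ (Nat.card E - 1) = 1 :=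
      pow_card_sub_one (by rwa [Units.val_pow_eq_pow_val])
    have h1 : ω ^ ((q - 1) * (3 * (Nat.card E - 1))) = 1 := by
      rw [show (q - 1) * (3 * (Nat.card E - 1)) = 3 * ((q - 1) * (Nat.card E - 1)) by ring, pow_mul,
        ← kap_pow hσ hcyc hq, ← pow_mul, mul_comm (q + 2), pow_mul, pow_mul, hk, one_pow]
    have h0 : 1 < Nat.card E := Finite.one_lt_card
    have h2 := dvd_of_pow_eq_one hσ hcyc hq h1
    obtain ⟨r, rfl⟩ : ∃ r, q = r + 1 := ⟨q - 1, by omega⟩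
    rw [show (r + 1) ^ 2 - 1 = r * (r + 2) by rw [Nat.sub_eq_iff_eq_add (Nat.one_le_pow _ _ (by omega))]; ring,
      Nat.add_sub_cancel] at h2
    have h2' : r + 2 ≤ 3 * (Nat.card E - 1) :=
      Nat.le_of_dvd (by omega) (Nat.dvd_of_mul_dvd_mul_left (by omega) h2)
    have hc : Nat.card F = Nat.card E ^ Module.finrank E F := Module.natCard_eq_pow_finrank
    have h4 : Nat.card E ^ 4 ≤ Nat.card E ^ Module.finrank E F := Nat.pow_le_pow_right Nat.card_pos (by omega)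
    rw [← hc, hσ.card_sq, hq] at h4
    have h5 : Nat.card E ^ 2 ≤ r + 1 := (Nat.pow_le_pow_iff_left two_ne_zero).1 (by rw [← pow_mul]; exact h4)
    obtain ⟨e, he⟩ : ∃ e, Nat.card E = e + 1 := ⟨Nat.card E - 1, by omega⟩
    rw [he, Nat.add_sub_cancel] at h2'
    rw [he] at h5
    nlinarith
  obtain ⟨P, hP⟩ := exists_kap_poly (p := p) hσ hcyc hq h3 u
  have hint : IsIntegral E (kap σ ω : F) := IsIntegral.of_finite _ _
  obtain ⟨f, hf⟩ : ∃ f : E[X], f = P.map (algebraMap (ZMod p) E) %ₘ minpoly E (kap σ ω : F) := ⟨_, rfl⟩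
  have hdeg : f.natDegree < 3 := by
    rw [hf]
    exact lt_of_lt_of_le (natDegree_modByMonic_lt _ (minpoly.monic hint) (minpoly.ne_one E _))
      (le_trans (minpoly.natDegree_le _) hd)
  have hfu : aeval (kap σ ω : F) f = u := by
    rw [hf, ← modByMonic_add_div (P.map (algebraMap (ZMod p) E)) (minpoly E (kap σ ω : F))] at *
    rw [← hP, ← aeval_map_algebraMap E (kap σ ω : F) P]
    conv_rhs => rw [← modByMonic_add_div (P.map (algebraMap (ZMod p) E)) (minpoly E (kap σ ω : F))]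
    simp [minpoly.aeval]
  have hc : ∀ i : Fin 3, ∃ R : (ZMod p)[X], aeval ((kap σ ω : F) ^ (q - 1)) R = (f.coeff i : F) :=
    fun i => hE _ (f.coeff i).2
  choose R hR using hc
  refine ⟨R, ?_⟩
  rw [← hfu, aeval_eq_sum_range' hdeg, Fin.sum_univ_three]
  simp only [Finset.sum_range_succ, Finset.sum_range_zero, zero_add, Algebra.smul_def]
  simp [hR]

theorem exists_line_poly (h3 : 3 ≤ q) (u : F) : ∃ P₀ P₁ : (ZMod p)[X],
    u = aeval (nu σ ω : F) P₀ + aeval (nu σ ω : F) P₁ * (kap σ ω : F) := by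
  have hden : (kap σ ω : F) - σ (kap σ ω) ≠ 0 := sub_ne_zero.2 (Ne.symm (kap_not_fixed hσ hcyc hq h3))
  obtain ⟨k, hk⟩ : ∃ k, k = (kap σ ω : F) := ⟨_, rfl⟩
  rw [← hk] at hden ⊢
  obtain ⟨l, hl⟩ : ∃ l, l = (u - σ u) / (k - σ k) := ⟨_, rfl⟩
  have hlf : σ l = l := by
    rw [hl, map_div₀, map_sub, map_sub, hσ.invol, hσ.invol, ← neg_sub u, ← neg_sub k, neg_div_neg_eq]
  have h1 : l * (k - σ k) = u - σ u := by rw [hl, div_mul_cancel₀ _ hden]
  have hm : σ (u - l * k) = u - l * k := by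
    rw [map_sub, map_mul, hlf]
    linear_combination h1
  obtain ⟨P₀, h0⟩ := exists_nu_poly (p := p) hσ hcyc hq hm
  obtain ⟨P₁, h1'⟩ := exists_nu_poly (p := p) hσ hcyc hq hlf
  exact ⟨P₀, P₁, by rw [h0, h1', sub_add_cancel]⟩

omit [Fact p.Prime] [Algebra (ZMod p) F] in
theorem one_add_nu : (∃ j : ℕ, (nu σ ω : F) ^ j = 1 + (nu σ ω : F)) ∨ q ≤ 3 := by
  by_cases h : 1 + (nu σ ω : F) = 0
  · refine Or.inr ?_
    have h2 : nu σ ω ^ 2 = 1 := Units.ext (by
      rw [Units.val_pow_eq_pow_val, eq_neg_of_add_eq_zero_right h, neg_one_sq, Units.val_one])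
    rw [nu_eq hσ hq, ← pow_mul] at h2
    have h3 := Nat.le_of_dvd (by omega) (dvd_of_pow_eq_one hσ hcyc hq h2)
    by_contra h4
    have h5 : 4 * q ≤ q ^ 2 := by nlinarith
    omega
  · refine Or.inl ?_
    refine fixed_eq_pow hσ hcyc hq ?_ h
    rw [map_add, map_one, coe_nu, map_mul, hσ.invol, mul_comm (σ (ω : F))]

end CfsgLib.Known.SU3Bounded
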