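import Cfsg.Agent.Lib.Known.SU3Bounded.Mat
import Cfsg.Agent.Lib.Known.SU3Bounded.Field
import Cfsg.Agent.Lib.Known.SL2Bounded.Word

/-!
# Values of words in the unipotent radical
-/

set_option autoImplicit false

open Matrix Polynomial
open CfsgLib.Known.SL2Bounded (cj word wordN)

namespace CfsgLib.Known.SU3Bounded

variable {F : Type*} [Field F] {σ : F →+* F}

/-- `g` is unipotent with first coordinate `α` -/
def First (σ : F →+* F) (g : SpecialLinearGroup (Fin 3) F) (α : F) : Prop :=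
  ∃ b, b + σ b = -(α * σ α) ∧ g = uMat σ (α, b)

theorem first_one (σ : F →+* F) : First σ 1 0 := ⟨0, by simp, (uMat_one σ).symm⟩

theorem first_unique {g : SpecialLinearGroup (Fin 3) F} {α β : F} (h : First σ g α) (h' : First σ g β) : α = β := by
  obtain ⟨b, -, rfl⟩ := h
  obtain ⟨c, -, e⟩ := h'
  exact congrArg Prod.fst (uMat_inj σ e)

variable (hσ : Classical.Herm.IsInvol σ)
include hσ

theorem first_mul {g g' : SpecialLinearGroup (Fin 3) F} {α β : F} (h : First σ g α) (h' : First σ g' β) :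
    First σ (g * g') (α + β) := by
  obtain ⟨b, hb, rfl⟩ := h
  obtain ⟨c, hc, rfl⟩ := h'
  refine ⟨b + c - α * σ β, ?_, uMat_mul σ _ _⟩
  simp only [map_add, map_sub, map_mul, hσ.invol]
  linear_combination hb + hc

theorem first_inv {g : SpecialLinearGroup (Fin 3) F} {α : F} (h : First σ g α) : First σ g⁻¹ (-α) := by
  obtain ⟨b, hb, rfl⟩ := h
  refine ⟨σ b, by simp [hσ.invol]; linear_combination hb, inv_eq_of_mul_eq_one_right ?_⟩
  rw [uMat_mul, ← uMat_one σ]
  congr 1
  refine Prod.ext (add_neg_cancel α) ?_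
  simp only [map_neg]
  linear_combination hb

theorem first_pow {g : SpecialLinearGroup (Fin 3) F} {α : F} (h : First σ g α) : ∀ n : ℕ, First σ (g ^ n) (n * α)
  | 0 => by simpa using first_one σ
  | n + 1 => by
    rw [pow_succ, Nat.cast_succ, add_mul, one_mul]
    exact first_mul hσ (first_pow h n) h

theorem dMat_conj (t : Fˣ) (u : F × F) : dMat σ t * uMat σ u * (dMat σ t)⁻¹ =
    uMat σ ((t : F) ^ 2 / σ t * u.1, (t : F) * σ t * u.2) := by
  rw [dMat_uMat hσ, mul_inv_cancel_right]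

theorem first_cj {g : SpecialLinearGroup (Fin 3) F} {α : F} (h : First σ g α) (t : Fˣ) (n : ℤ) :
    First σ (cj g (dMat σ t) n) (((kap σ t ^ n : Fˣ) : F) * α) := by
  obtain ⟨b, hb, rfl⟩ := h
  rw [cj, ← dHom_apply, ← map_zpow, dHom_apply, dMat_conj hσ]
  obtain ⟨s, hs⟩ : ∃ s, s = t ^ n := ⟨_, rfl⟩
  rw [← hs]
  refine ⟨((s : F) * σ s * b), ?_, ?_⟩
  · have e : ((kap σ t ^ n : Fˣ) : F) = (s : F) ^ 2 / σ s := by
      rw [show kap σ t ^ n = kap σ s by rw [hs, kap_zpow]]
      exact coe_kap s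
    have := (map_ne_zero σ).2 s.ne_zero
    rw [e, map_mul, map_mul, map_mul, map_div₀, map_pow, hσ.invol]
    field_simp
    linear_combination hb
  · congr 2
    rw [show kap σ t ^ n = kap σ s by rw [hs, kap_zpow],
      coe_kap]

theorem cen_cj (c : F) (t : Fˣ) (n : ℤ) :
    cj (uMat σ (0, c)) (dMat σ t) n = uMat σ (0, ((nu σ t ^ n : Fˣ) : F) * c) := by
  rw [cj, ← dHom_apply, ← map_zpow, dHom_apply, dMat_conj hσ]
  congr 1
  refine Prod.ext (mul_zero _) ?_
  rw [show nu σ t ^ n = nu σ (t ^ n) by simp [nu, mul_zpow], coe_nu]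

omit hσ in
theorem cen_mul (c d : F) : uMat σ (0, c) * uMat σ (0, d) = uMat σ (0, c + d) := by
  rw [uMat_mul]; simp

omit hσ in
theorem cen_pow (c : F) : ∀ n : ℕ, uMat σ (0, c) ^ n = uMat σ (0, (n : F) * c)
  | 0 => by simp [uMat_one]
  | n + 1 => by rw [pow_succ, cen_pow c n, cen_mul]; push_cast; congr 2; ring

variable {p : ℕ} [Fact p.Prime] [Algebra (ZMod p) F]

theorem first_word {g : SpecialLinearGroup (Fin 3) F} {α : F} (h : First σ g α) (t : Fˣ) (P : (ZMod p)[X]) :
    First σ (word g (dMat σ t) P) (aeval (kap σ t : F) P * α) := by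
  rw [aeval_eq_sum_range, word, Finset.sum_mul]
  induction P.natDegree + 1 with
  | zero => simpa [wordN] using first_one σ
  | succ N ih =>
    rw [wordN, Finset.sum_range_succ]
    refine first_mul hσ ih ?_
    have := first_pow hσ (first_cj hσ h t N) (P.coeff N).val
    convert this using 1
    rw [Algebra.smul_def, zpow_natCast, Units.val_pow_eq_pow_val]
    conv_lhs => rw [← ZMod.natCast_zmod_val (P.coeff N), map_natCast]
    ring

theorem cen_word (c : F) (t : Fˣ) (P : (ZMod p)[X]) :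
    word (uMat σ (0, c)) (dMat σ t) P = uMat σ (0, aeval (nu σ t : F) P * c) := by
  rw [aeval_eq_sum_range, word, Finset.sum_mul]
  induction P.natDegree + 1 with
  | zero => simp [wordN, uMat_one]
  | succ N ih =>
    rw [wordN, ih, cen_cj hσ, cen_pow, cen_mul, Finset.sum_range_succ]
    congr 2
    congr 1
    rw [Algebra.smul_def, zpow_natCast, Units.val_pow_eq_pow_val]
    conv_rhs => rw [← ZMod.natCast_zmod_val (P.coeff N), map_natCast]
    ring

omit [Fact p.Prime] [Algebra (ZMod p) F] in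
theorem comm_value {b : F} (hb : b + σ b = -1) (t : Fˣ) :
    uMat σ (1, b) * cj (uMat σ (1, b)) (dMat σ t) 1 * (uMat σ (1, b))⁻¹ * (cj (uMat σ (1, b)) (dMat σ t) 1)⁻¹ =
      uMat σ (0, (kap σ t : F) - σ (kap σ t : F)) := by
  obtain ⟨c, hc, e⟩ := first_cj hσ (α := (1 : F)) ⟨b, by simpa using hb, rfl⟩ t 1
  rw [e, zpow_one, mul_one, mul_inv_eq_iff_eq_mul, mul_inv_eq_iff_eq_mul, uMat_mul, uMat_mul, uMat_mul]
  congr 1
  refine Prod.ext (by simp [add_comm]) ?_
  simp
  ring

end CfsgLib.Known.SU3Bounded
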