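import Cfsg.Agent.Lib.Known.SL2Bounded.Word

/-!
# Commuting orbits

Two additive orbits `α`, `β` with a common relation `x_j = x·x_1` commute as soon as two adjacent pairs do.
-/

set_option autoImplicit false

open CfsgLib.Known.SL2Bounded (cj cj_zero conj_cj)

namespace CfsgLib.Known.SU3Bounded

variable {Q : Type*} [Group Q]

theorem shift_commute {α β h : Q} (k m n : ℤ) (e : Commute (cj α h m) (cj β h n)) :
    Commute (cj α h (k + m)) (cj β h (k + n)) := by
  have e1 := e.map (MulAut.conj (h ^ k)).toMonoidHom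
  simp only [MulEquiv.coe_toMonoidHom, MulAut.conj_apply] at e1
  rwa [conj_cj, conj_cj] at e1

theorem third_left {x y z b : Q} (e : x = y * z) (hx : Commute x b) (hy : Commute y b) : Commute z b := by
  have : z = y⁻¹ * x := by rw [e, inv_mul_cancel_left]
  exact this ▸ hy.inv_left.mul_left hx

theorem second_left {x y z b : Q} (e : x = y * z) (hx : Commute x b) (hz : Commute z b) : Commute y b := by
  have : y = x * z⁻¹ := by rw [e, mul_inv_cancel_right]
  exact this ▸ hx.mul_left hz.inv_left

theorem commute_lattice {α β h : Q} (h0 : Commute α β) (h1 : Commute (cj α h 1) β)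
    (hper : (∃ j : ℕ, cj α h j = α * cj α h 1 ∧ cj β h j = β * cj β h 1) ∨
      (cj α h 2 = α ∧ cj β h 2 = β)) (n : ℤ) : Commute (cj α h n) β := by
  rcases hper with ⟨j, hα, hβ⟩ | ⟨hα, -⟩
  · let D : ℤ → Prop := fun d => Commute (cj α h d) β
    have toD : ∀ x e : ℤ, Commute (cj α h x) (cj β h e) → D (x - e) := fun x e hc => by
      have h2 := shift_commute (-e) x e hc
      rw [neg_add_cancel, cj_zero, neg_add_eq_sub] at h2
      exact h2
    have ofD : ∀ x e : ℤ, D (x - e) → Commute (cj α h x) (cj β h e) := fun x e hc => by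
      have hc' : Commute (cj α h (x - e)) (cj β h 0) := by rw [cj_zero]; exact hc
      have h2 := shift_commute e _ _ hc'
      rwa [add_sub_cancel, add_zero] at h2
    have up : ∀ d, cj α h (d + j) = cj α h d * cj α h (d + 1) := fun d => by
      rw [← conj_cj, hα]
      nth_rewrite 1 [← cj_zero α h]
      rw [← conj_cj α h d 1, show cj α h d = h ^ d * cj α h 0 * (h ^ d)⁻¹ by rw [conj_cj, add_zero]]
      group
    have up1 : ∀ d, D d → D (d + 1) → D (d + j) := fun d a b => by
      show Commute _ β
      rw [up]; exact a.mul_left b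
    have up2 : ∀ d, D (d + j) → D (d + 1) → D d := fun d a b => second_left (up d) a b
    have up3 : ∀ d, D (d + j) → D d → D (d + 1) := fun d a b => third_left (up d) a b
    have down1 : ∀ x, D x → D (x - 1) → D (x - j) := fun x a b => toD x j (by
      rw [hβ]
      exact (by simpa [cj_zero] using ofD x 0 (by rwa [sub_zero]) : Commute (cj α h x) β).mul_right (ofD x 1 b))
    have down2 : ∀ x, D (x - j) → D (x - 1) → D x := fun x a b => by
      have := second_left hβ (ofD x j a).symm (ofD x 1 b).symm
      exact this.symm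
    have down3 : ∀ x, D (x - j) → D x → D (x - 1) := fun x a b => by
      have := third_left hβ (ofD x j a).symm (b.symm : Commute β (cj α h x))
      exact toD x 1 this.symm
    have key : ∀ d : ℤ, D d ∧ D (d + 1) := by
      intro d
      induction d with
      | zero => exact ⟨by show Commute (cj α h 0) β; rwa [cj_zero], by rw [zero_add]; exact h1⟩
      | succ k ih =>
        refine ⟨ih.2, ?_⟩
        have a1 := up1 _ ih.1 ih.2
        have a2 : D ((k : ℤ) + 1 + j) := down2 _ (by rw [add_sub_cancel_right]; exact ih.2) (by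
          rw [show (k : ℤ) + 1 + (j : ℤ) - 1 = k + j by ring]; exact a1)
        exact up3 _ a2 ih.2
      | pred k ih =>
        have ih2 : D (-(k : ℤ) + 1) := ih.2
        have a1 : D (-(k : ℤ) + 1 - j) := down1 _ ih2 (by rw [add_sub_cancel_right]; exact ih.1)
        have a2 : D (-(k : ℤ) - j) := up2 _ (by rw [sub_add_cancel]; exact ih.1) (by
          rw [show -(k : ℤ) - (j : ℤ) + 1 = -(k : ℤ) + 1 - j by ring]; exact a1)
        exact ⟨down3 _ a2 ih.1, by rw [sub_add_cancel]; exact ih.1⟩
    exact (key n).1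
  · have hh : Commute (h ^ (2 : ℤ)) α := by
      rw [commute_iff_eq, ← mul_inv_eq_iff_eq_mul]
      exact hα
    have e : ∀ k r : ℤ, cj α h (2 * k + r) = cj α h r := fun k r => by
      have h2 : Commute (h ^ (2 * k)) α := by rw [zpow_mul]; exact hh.zpow_left k
      simp only [cj]
      rw [add_comm, zpow_add, show h ^ r * h ^ (2 * k) * α * (h ^ r * h ^ (2 * k))⁻¹ =
        h ^ r * (h ^ (2 * k) * α * (h ^ (2 * k))⁻¹) * (h ^ r)⁻¹ by group, h2.eq, mul_inv_cancel_right]
    obtain ⟨k, rfl | rfl⟩ := Int.even_or_odd' n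
    · have := e k 0
      rw [add_zero, cj_zero] at this
      rw [this]; exact h0
    · rw [e]; exact h1

/-- an orbit commutes with itself -/
theorem commute_orbit {α h : Q} (h1 : Commute (cj α h 1) α)
    (hper : (∃ j : ℕ, cj α h j = α * cj α h 1) ∨ cj α h 2 = α) (m n : ℤ) : Commute (cj α h m) (cj α h n) := by
  have hper' : (∃ j : ℕ, cj α h j = α * cj α h 1 ∧ cj α h j = α * cj α h 1) ∨
      (cj α h 2 = α ∧ cj α h 2 = α) := hper.imp (fun ⟨j, hj⟩ => ⟨j, hj, hj⟩) fun e => ⟨e, e⟩
  have := commute_lattice (Commute.refl α) h1 hper' (m - n)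
  have h2 := shift_commute (α := α) (β := α) (h := h) n (m - n) 0 (by rw [cj_zero]; exact this)
  rwa [add_sub_cancel, add_zero] at h2

end CfsgLib.Known.SU3Bounded
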