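import Cfsg.Agent.Lib.Known.SU3Bounded.Rels
import Cfsg.Agent.Lib.Classical.Unitary.Matrix
import Cfsg.Agent.Lib.Known.AutPSU.Aut
import Cfsg.Agent.Lib.Known.SLBounded.Pres

/-!
# Short presentations of `SU₃` and `PSU₃`
-/

set_option autoImplicit false

open Polynomial
open CfsgLib.Known.SL2Bounded (cj cj_zero conj_cj map_cj conj_closure_mem)

namespace CfsgLib.Known.SU3Bounded

section Main

variable {F : Type*} [Field F] [Finite F] {p : ℕ} [Fact p.Prime] [Algebra (ZMod p) F] {σ : F →+* F}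
  (hσ : Classical.Herm.IsInvol σ) {ω : Fˣ} (hcyc : ∀ x : Fˣ, x ∈ Subgroup.zpowers ω) {q : ℕ}
  (hq : Nat.card (Classical.Herm.fixedSub σ) = q) (h3 : 3 ≤ q) {b₀ : F} (hb₀ : b₀ + σ b₀ = -1)
include hσ hcyc hq h3 hb₀

theorem exists_rank1 {G : Type} [Group G] (π : FreeGroup (Fin 3) →* G) (hπ : Function.Surjective π)
    (f : G →* Matrix.SpecialLinearGroup (Fin 3) F) (hf : f.comp π = ev σ ω b₀)
    (R : Facts p σ ω q (π ga) (π gh)) (hww : π gw * π gw = 1)
    (hwh : π gw * π gh * (π gw)⁻¹ = (π gh ^ q)⁻¹) :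
    ∃ S : Rank1 σ G, S.f = f ∧ S.w = π gw ∧
      (∀ g ∈ Ugr (π ga) (π gh), ∀ u : Pt σ, f g = uMat σ u.1 → g = S.x u) ∧
      ∀ k : ℕ, S.H (ω ^ k) = π gh ^ k := by
  have hfx : ∀ v, f (π v) = ev σ ω b₀ v := fun v => DFunLike.congr_fun hf v
  have hfa : f (π ga) = uMat σ (1, b₀) := (hfx ga).trans (ev_ga σ ω b₀)
  have hfh : f (π gh) = dMat σ ω := (hfx gh).trans (ev_gh σ ω b₀)
  choose x hxU hxf using fun u : Pt σ => R.exists_preimage h3 hσ hcyc hq hb₀ hfa hfh u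
  have huniq : ∀ g ∈ Ugr (π ga) (π gh), ∀ u : Pt σ, f g = uMat σ u.1 → g = x u := fun g hg u e => by
    have := R.injective h3 hσ hcyc hq hb₀ hfa hfh (g := g * (x u)⁻¹) (mul_mem hg (inv_mem (hxU u)))
      (by rw [map_mul, map_inv, e, hxf, mul_inv_cancel])
    exact mul_inv_eq_one.1 this
  have hord : orderOf (π gh) ∣ orderOf ω := by
    rw [orderOf_omega hσ hcyc hq]
    exact orderOf_dvd_of_pow_eq_one R.hord
  obtain ⟨H, hH⟩ : ∃ H : Fˣ →* G, H = monoidHomOfForallMemZpowers hcyc hord := ⟨_, rfl⟩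
  have hHω : H ω = π gh := by rw [hH, monoidHomOfForallMemZpowers_apply_gen]
  have hHk : ∀ k : ℕ, H (ω ^ k) = π gh ^ k := fun k => by rw [map_pow, hHω]
  have hexp : ∀ t : Fˣ, ∃ k : ℕ, ω ^ k = t := fun t => mem_powers_iff_mem_zpowers.2 (hcyc _)
  have hfH : ∀ t, f (H t) = dMat σ t := fun t => by
    obtain ⟨k, rfl⟩ := hexp t
    rw [hHk, map_pow, hfh, ← dHom_apply, ← map_pow, dHom_apply]
  have hconj : ∀ (k : ℤ), ∀ g ∈ Ugr (π ga) (π gh), π gh ^ k * g * (π gh ^ k)⁻¹ ∈ Ugr (π ga) (π gh) := fun k =>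
    conj_closure_mem (by
      rintro _ ⟨n, rfl⟩
      rw [conj_cj]
      exact Subgroup.subset_closure ⟨_, rfl⟩)
  refine ⟨{
    x := x
    H := H
    w := π gw
    f := f
    invol := hσ
    fx := hxf
    fH := hfH
    fw := (hfx gw).trans (ev_gw σ ω b₀)
    x_mul := fun u v => huniq _ (mul_mem (hxU u) (hxU v)) _ (by rw [map_mul, hxf, hxf, uMat_mul]; rfl)
    hx := fun t u => by
      obtain ⟨k, rfl⟩ := hexp t
      refine mul_inv_eq_iff_eq_mul.1 (huniq _ ?_ _ ?_)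
      · rw [hHk, ← zpow_natCast]; exact hconj _ _ (hxU u)
      · rw [map_mul, map_mul, map_inv, hfH, hxf, dMat_conj hσ]; rfl
    hw := fun t => by
      obtain ⟨k, rfl⟩ := hexp t
      rw [map_pow (Units.map (σ : F →* F)), map_omega hσ hq, ← pow_mul, map_inv, hHk, hHk, ← mul_inv_eq_iff_eq_mul,
        ← conj_pow, hwh, inv_pow, ← pow_mul]
    ww := hww
    gen := by
      rw [eq_top_iff]
      rintro g -
      obtain ⟨v, rfl⟩ := hπ g
      induction v using FreeGroup.induction_on with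
      | C1 => simp
      | of i =>
        refine Subgroup.subset_closure ?_
        fin_cases i
        · exact Or.inl (Or.inl ⟨⟨(1, b₀), by simpa using hb₀⟩, (huniq (π ga)
            (Subgroup.subset_closure ⟨0, cj_zero _ _⟩) ⟨(1, b₀), by simpa using hb₀⟩ hfa).symm⟩)
        · exact Or.inl (Or.inr ⟨ω, hHω⟩)
        · exact Or.inr rfl
      | inv_of i ih => simpa [map_inv] using inv_mem ih
      | mul v v' hv hv' => rw [map_mul]; exact mul_mem hv hv' }, rfl, rfl, huniq, hHk⟩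

include p in
theorem presentation : ∃ L : List (FreeGroup (Fin 3)), L.length ≤ 22 ∧
    Nonempty (PresentedGroup {r | r ∈ L} ≃* AU σ) := by
  obtain ⟨LB, hLB, hLBev, hLBfacts⟩ := exists_borel_rels (p := p) hσ hcyc hq h3 hb₀
  obtain ⟨δ, hδ⟩ : ∃ δ, δ = (kap σ ω : F) - σ (kap σ ω : F) := ⟨_, rfl⟩
  have hδ0 : δ ≠ 0 := hδ ▸ delta_ne hσ hcyc hq h3
  have hσδ : σ δ = -δ := by rw [hδ, map_sub, hσ.invol]; ring
  let z : Pt σ := ⟨(0, δ), by rw [hσδ]; simp⟩
  obtain ⟨vz, vz1, vz2, kz, hzrel, hzev, hzmem⟩ := exists_relator hσ hcyc hq h3 hb₀ p z hδ0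
  have hu : ∀ r : Fin 3, ∃ u : Pt σ, u.1.1 = (ω : F) ^ (r : ℕ) ∧ σ (u.1.2 / (δ * ω)) = u.1.2 / (δ * ω) ∧
      u.1.2 ≠ 0 := by
    intro r
    have hωne : σ (ω : F) ≠ ω := fun e => by
      have h1 := kap_not_fixed hσ hcyc hq h3
      rw [coe_kap, map_div₀, map_pow, hσ.invol, e] at h1
      exact h1 rfl
    obtain ⟨n, hn⟩ : ∃ n, n = (ω : F) ^ (r : ℕ) * σ ((ω : F) ^ (r : ℕ)) := ⟨_, rfl⟩
    have hn0 : n ≠ 0 := hn ▸ mul_ne_zero (pow_ne_zero _ ω.ne_zero) ((map_ne_zero σ).2 (pow_ne_zero _ ω.ne_zero))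
    have hd : (ω : F) - σ ω ≠ 0 := sub_ne_zero.2 (Ne.symm hωne)
    obtain ⟨l, hl⟩ : ∃ l, l = -n / (δ * ((ω : F) - σ ω)) := ⟨_, rfl⟩
    have hlf : σ l = l := by
      rw [hl, map_div₀, map_neg, map_mul, map_sub, hσ.invol, hσδ, hn, map_mul, hσ.invol,
        mul_comm (σ ((ω : F) ^ (r : ℕ)))]
      congr 1
      ring
    have hl0 : l ≠ 0 := hl ▸ div_ne_zero (neg_ne_zero.2 hn0) (mul_ne_zero hδ0 hd)
    refine ⟨⟨((ω : F) ^ (r : ℕ), δ * ω * l), ?_⟩, rfl, ?_, mul_ne_zero (mul_ne_zero hδ0 ω.ne_zero) hl0⟩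
    · rw [map_mul, map_mul, hσδ, hlf, ← hn]
      have : l * (δ * ((ω : F) - σ ω)) = -n := by rw [hl, div_mul_cancel₀ _ (mul_ne_zero hδ0 hd)]
      linear_combination this
    · rw [mul_div_cancel_left₀ _ (mul_ne_zero hδ0 ω.ne_zero), hlf]
  choose u hu1 hu2 hu3 using hu
  choose v v1 v2 k hrel hvev hvmem using fun r => exists_relator hσ hcyc hq h3 hb₀ p (u r) (hu3 r)
  let L : List (FreeGroup (Fin 3)) := LB ++ [gw * gw, gw * gh * gw⁻¹ * gh ^ q,
    gw * vz * gw * (vz1 * gh ^ kz * gw * vz2)⁻¹,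
    gw * v 0 * gw * (v1 0 * gh ^ k 0 * gw * v2 0)⁻¹, gw * v 1 * gw * (v1 1 * gh ^ k 1 * gw * v2 1)⁻¹,
    gw * v 2 * gw * (v1 2 * gh ^ k 2 * gw * v2 2)⁻¹]
  have hLev : ∀ r ∈ {r | r ∈ L}, FreeGroup.lift ![uMat σ (1, b₀), dMat σ ω, wMat] r = 1 := by
    intro r hr
    show ev σ ω b₀ r = 1
    rcases List.mem_append.1 hr with hr | hr
    · exact hLBev r hr
    · simp only [List.mem_cons, List.not_mem_nil, or_false] at hr
      rcases hr with rfl | rfl | rfl | rfl | rfl | rfl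
      · rw [map_mul, ev_gw, wMat_sq]
      · rw [map_mul, map_mul, map_mul, map_inv, map_pow, ev_gw, ev_gh, wMat_dMat hσ, mul_inv_cancel_right,
          ← dHom_apply, ← dHom_apply, ← map_pow, ← map_mul, map_omega hσ hq, inv_mul_cancel, map_one]
      exacts [hzrel, hrel 0, hrel 1, hrel 2]
  let π := PresentedGroup.mk {r | r ∈ L}
  let f := PresentedGroup.toGroup hLev
  have hπ : Function.Surjective π := PresentedGroup.mk_surjective _
  have hf : f.comp π = ev σ ω b₀ := FreeGroup.ext_hom _ _ fun x =>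
    (PresentedGroup.toGroup.of hLev).trans FreeGroup.lift_apply_of.symm
  have hR : ∀ r ∈ L, π r = 1 := fun r hr => PresentedGroup.one_of_mem hr
  have hww : π gw * π gw = 1 := by rw [← map_mul]; exact hR _ (by simp [L])
  have hwh : π gw * π gh * (π gw)⁻¹ = (π gh ^ q)⁻¹ := by
    refine eq_inv_of_mul_eq_one_left ?_
    rw [← map_pow, ← map_inv, ← map_mul, ← map_mul, ← map_mul]
    exact hR _ (by simp [L])
  obtain ⟨S, hSf, hSw, huniq, hHk⟩ := exists_rank1 hσ hcyc hq h3 hb₀ π hπ f hf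
    (hLBfacts _ π fun r hr => hR r (List.mem_append_left _ hr)) hww hwh
  have hfx : ∀ g, f (π g) = ev σ ω b₀ g := fun g => DFunLike.congr_fun hf g
  have mkRel : ∀ (w w1 w2 : FreeGroup (Fin 3)) (m : ℕ) (t : Pt σ),
      gw * w * gw * (w1 * gh ^ m * gw * w2)⁻¹ ∈ L → ev σ ω b₀ w = uMat σ t.1 →
      (π w ∈ Ugr (π ga) (π gh) ∧ π w1 ∈ Ugr (π ga) (π gh) ∧ π w2 ∈ Ugr (π ga) (π gh)) →
      (∃ t1 t2 : Pt σ, ev σ ω b₀ w1 = uMat σ t1.1 ∧ ev σ ω b₀ w2 = uMat σ t2.1) →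
      S.Rel t := by
    rintro w w1 w2 m t hr hw ⟨m0, m1, m2⟩ ⟨t1, t2, e1, e2⟩
    refine ⟨t1, ω ^ m, t2, ?_⟩
    rw [← huniq _ m0 t ((hfx w).trans hw), ← huniq _ m1 t1 ((hfx w1).trans e1), ← huniq _ m2 t2 ((hfx w2).trans e2),
      hHk, hSw]
    have := hR _ hr
    simp only [map_mul, map_inv, map_pow, mul_inv_eq_one] at this
    exact this
  have hval : ∀ g : FreeGroup (Fin 3), π g ∈ Ugr (π ga) (π gh) → ∃ t : Pt σ, ev σ ω b₀ g = uMat σ t.1 := by
    intro g hg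
    have : Ugr (π ga) (π gh) ≤ (Subgroup.closure (Set.range fun t : Pt σ => uMat σ t.1)).comap f := by
      refine (Subgroup.closure_le _).2 ?_
      rintro _ ⟨n, rfl⟩
      obtain ⟨b, hb, e⟩ := first_cj hσ (α := (1 : F)) ⟨b₀, by simpa using hb₀, ev_ga σ ω b₀⟩ ω n
      refine Subgroup.subset_closure ⟨⟨(_, b), hb⟩, ?_⟩
      rw [map_cj, hfx, hfx, ev_gh, e]
    have h := this hg
    rw [Subgroup.mem_comap, hfx] at h
    obtain ⟨b, hb, e⟩ : ∃ α, First σ (ev σ ω b₀ g) α := by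
      generalize ev σ ω b₀ g = y at h ⊢
      induction h using Subgroup.closure_induction with
      | mem x hx => obtain ⟨t, rfl⟩ := hx; exact ⟨t.1.1, t.1.2, t.2, rfl⟩
      | one => exact ⟨0, first_one σ⟩
      | mul x y _ _ hx hy =>
        obtain ⟨a, ha⟩ := hx
        obtain ⟨b, hb⟩ := hy
        exact ⟨_, first_mul hσ ha hb⟩
      | inv x _ hx => obtain ⟨a, ha⟩ := hx; exact ⟨_, first_inv hσ ha⟩
    obtain ⟨c, hc, e'⟩ := hb, e
    exact ⟨⟨(_, _), hc⟩, e'⟩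
  have hrelz : S.Rel z := mkRel vz vz1 vz2 kz z (by simp [L]) hzev (hzmem _ π) (by
    obtain ⟨t1, e1⟩ := hval vz1 (hzmem _ π).2.1
    obtain ⟨t2, e2⟩ := hval vz2 (hzmem _ π).2.2
    exact ⟨t1, t2, e1, e2⟩)
  have hrelu : ∀ r : Fin 3, S.Rel (u r) := fun r =>
    mkRel (v r) (v1 r) (v2 r) (k r) (u r) (by fin_cases r <;> simp [L]) (hvev r) (hvmem r _ π) (by
      obtain ⟨t1, e1⟩ := hval (v1 r) (hvmem r _ π).2.1
      obtain ⟨t2, e2⟩ := hval (v2 r) (hvmem r _ π).2.2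
      exact ⟨t1, t2, e1, e2⟩)
  have hinj : Function.Injective S.f := S.injective (S.rel_all hδ0 hσδ hcyc ⟨z, rfl, hδ0, hrelz⟩
    fun r hr => ⟨u ⟨r, hr⟩, hu1 ⟨r, hr⟩, hu2 ⟨r, hr⟩, hrelu ⟨r, hr⟩⟩)
  refine ⟨L, ?_, ⟨(MonoidHom.ofInjective hinj).trans (MulEquiv.subgroupCongr S.range_eq)⟩⟩
  simp only [L, List.length_append, List.length_cons, List.length_nil]
  omega

end Main

section Transfer

variable {F : Type*} [Field F] [Fintype F] {q : ℕ} (hF : Fintype.card F = q ^ 2)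

open Classical.Herm in
/-- the antidiagonal form in the library convention -/
noncomputable def antiForm : (Fin 3 → F) →ₛₗ[powHom hF] (Fin 3 → F) →ₗ[F] F :=
  LinearMap.mk₂'ₛₗ (powHom hF) (RingHom.id F) (fun x y => anti (powHom hF) y x)
    (fun x x' y => by simp only [anti, Pi.add_apply, map_add]; ring)
    (fun c x y => by simp only [anti, Pi.smul_apply, smul_eq_mul, map_mul]; ring)
    (fun x y y' => by simp only [anti, Pi.add_apply]; ring)
    (fun c x y => by simp only [anti, Pi.smul_apply, smul_eq_mul, RingHom.id_apply]; ring)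

include hF in
theorem exists_equiv_SU : Nonempty (AU (Classical.Herm.powHom hF) ≃* Cfsg.SU 3 F q) := by
  classical
  obtain ⟨σ, hσ'⟩ : ∃ σ, σ = Classical.Herm.powHom hF := ⟨_, rfl⟩
  have hh : Classical.Herm.IsHerm (antiForm hF) := by
    refine ⟨Classical.Herm.powHom_isInvol hF, fun x y => ?_, fun x hx => ?_⟩
    · show Classical.Herm.powHom hF (anti (Classical.Herm.powHom hF) y x) = anti (Classical.Herm.powHom hF) x y
      simp only [anti, map_add, map_mul, (Classical.Herm.powHom_isInvol hF).invol]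
      ring
    · have key : ∀ y, anti (Classical.Herm.powHom hF) y x = 0 := hx
      have h0 := key (Pi.single 0 1)
      have h1 := key (Pi.single 1 1)
      have h2 := key (Pi.single 2 1)
      simp [anti] at h0 h1 h2
      funext i
      fin_cases i <;> simp_all
  obtain ⟨e, he⟩ := hh.exists_isometry_of_finrank_eq (Classical.Herm.hermStd_isHerm (n := 3) hF) rfl
  have he' : ∀ u v, Cfsg.hermForm 3 F q (e u) (e v) = anti (Classical.Herm.powHom hF) u v := fun u v => he v u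
  obtain ⟨P, hP⟩ : ∃ P, P = LinearMap.toMatrix' (e : (Fin 3 → F) →ₗ[F] Fin 3 → F) := ⟨_, rfl⟩
  obtain ⟨P', hP'⟩ : ∃ P', P' = LinearMap.toMatrix' (e.symm : (Fin 3 → F) →ₗ[F] Fin 3 → F) := ⟨_, rfl⟩
  have hPv : ∀ v, P.mulVec v = e v := fun v => by rw [hP, LinearMap.toMatrix'_mulVec]; rfl
  have hP'v : ∀ v, P'.mulVec v = e.symm v := fun v => by rw [hP', LinearMap.toMatrix'_mulVec]; rfl
  have h1 : P * P' = 1 := by
    rw [hP, hP', ← LinearMap.toMatrix'_comp, LinearEquiv.comp_symm, LinearMap.toMatrix'_id]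
  have h2 : P' * P = 1 := mul_eq_one_comm.1 h1
  have hd : P.det * P'.det = 1 := by rw [← Matrix.det_mul, h1, Matrix.det_one]
  let ψ : Matrix.SpecialLinearGroup (Fin 3) F ≃* Matrix.SpecialLinearGroup (Fin 3) F :=
    { toFun := fun g => ⟨P * g.1 * P', by rw [Matrix.det_mul, Matrix.det_mul, g.2, mul_one, hd]⟩
      invFun := fun g => ⟨P' * g.1 * P, by rw [Matrix.det_mul, Matrix.det_mul, g.2, mul_one, mul_comm, hd]⟩
      left_inv := fun g => Subtype.ext (by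
        show P' * (P * g.1 * P') * P = g.1
        rw [← mul_assoc, ← mul_assoc, h2, one_mul, mul_assoc, h2, mul_one])
      right_inv := fun g => Subtype.ext (by
        show P * (P' * g.1 * P) * P' = g.1
        rw [← mul_assoc, ← mul_assoc, h1, one_mul, mul_assoc, h1, mul_one])
      map_mul' := fun g g' => Subtype.ext (by
        show P * (g.1 * g'.1) * P' = P * g.1 * P' * (P * g'.1 * P')
        calc P * (g.1 * g'.1) * P' = P * g.1 * 1 * (g'.1 * P') := by simp only [mul_one, mul_assoc]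
          _ = _ := by rw [← h2]; simp only [mul_assoc]) }
  have hmap : (AU (Classical.Herm.powHom hF)).map ψ.toMonoidHom = Cfsg.SU 3 F q := by
    ext g
    rw [Subgroup.mem_map_equiv, mem_AU]
    have key : ∀ u, Matrix.mulVec ((ψ.symm g : Matrix.SpecialLinearGroup (Fin 3) F) : Matrix (Fin 3) (Fin 3) F) u =
        e.symm (Matrix.mulVec g.1 (e u)) := fun u => by
      show Matrix.mulVec (P' * g.1 * P) u = _
      rw [← Matrix.mulVec_mulVec, ← Matrix.mulVec_mulVec, hPv, hP'v]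
    simp only [key, ← he', LinearEquiv.apply_symm_apply]
    exact ⟨fun h u v => by simpa using h (e.symm u) (e.symm v), fun h u v => h _ _⟩
  exact ⟨(ψ.subgroupMap _).trans (MulEquiv.subgroupCongr hmap)⟩

end Transfer

/-- the centre of `SU₃` is cyclic -/
theorem center_cyclic {F : Type*} [Field F] [Fintype F] {q : ℕ} (hF : Fintype.card F = q ^ 2) :
    IsCyclic (Subgroup.center (Cfsg.SU 3 F q)) := by
  let φ : Subgroup.center (Cfsg.SU 3 F q) →* F :=
    { toFun := fun z => ((z.1 : Matrix.SpecialLinearGroup (Fin 3) F) : Matrix (Fin 3) (Fin 3) F) 0 0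
      map_one' := by simp
      map_mul' := fun z z' => by
        obtain ⟨c, hc⟩ := AutPSU.scalar_of_mem_center hF le_rfl _ z.2
        obtain ⟨c', hc'⟩ := AutPSU.scalar_of_mem_center hF le_rfl _ z'.2
        show (((z.1 * z'.1 : Cfsg.SU 3 F q) : Matrix.SpecialLinearGroup (Fin 3) F) :
          Matrix (Fin 3) (Fin 3) F) 0 0 = _
        rw [Subgroup.coe_mul, Matrix.SpecialLinearGroup.coe_mul, hc, hc']
        simp [mul_comm] }
  refine isCyclic_of_subgroup_isDomain φ fun z z' e => ?_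
  obtain ⟨c, hc⟩ := AutPSU.scalar_of_mem_center hF le_rfl _ z.2
  obtain ⟨c', hc'⟩ := AutPSU.scalar_of_mem_center hF le_rfl _ z'.2
  refine Subtype.ext (Subtype.ext (Subtype.ext ?_))
  have : (c : F) = c' := by
    change ((z.1 : Matrix.SpecialLinearGroup (Fin 3) F) : Matrix (Fin 3) (Fin 3) F) 0 0 =
      ((z'.1 : Matrix.SpecialLinearGroup (Fin 3) F) : Matrix (Fin 3) (Fin 3) F) 0 0 at e
    rw [hc, hc'] at e
    simpa using e
  rw [hc, hc', this]

/-- short presentations of `SU₃` and `PSU₃` -/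
theorem su_three_presentations {F : Type*} [Field F] [Fintype F] {q : ℕ} (hF : Fintype.card F = q ^ 2)
    (h3 : 3 ≤ q) :
    (∃ rels : Finset (FreeGroup (Fin 3)), rels.card ≤ 22 ∧
      Nonempty (PresentedGroup (↑rels : Set (FreeGroup (Fin 3))) ≃* ↥(Cfsg.SU 3 F q))) ∧
    ∃ rels : Finset (FreeGroup (Fin 3)), rels.card ≤ 23 ∧
      Nonempty (PresentedGroup (↑rels : Set (FreeGroup (Fin 3))) ≃* Cfsg.PSU 3 F q) := by
  classical
  obtain ⟨p, hp⟩ := CharP.exists F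
  have : Fact p.Prime := ⟨CharP.char_is_prime F p⟩
  letI := ZMod.algebra F p
  have hσ := Classical.Herm.powHom_isInvol hF
  obtain ⟨ω, hcyc⟩ := IsCyclic.exists_generator (α := Fˣ)
  obtain ⟨b₀, hb₀⟩ := hσ.exists_trace_eq (μ := -1) (by rw [map_neg, map_one])
  obtain ⟨L, hL, ⟨e⟩⟩ := presentation (p := p) hσ hcyc (Classical.Herm.card_fixed_powHom hF) h3 hb₀
  obtain ⟨e'⟩ := exists_equiv_SU hF
  have hset : ((L.toFinset : Finset (FreeGroup (Fin 3))) : Set (FreeGroup (Fin 3))) = {r | r ∈ L} :=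
    List.coe_toFinset L
  obtain ⟨E⟩ : Nonempty (PresentedGroup ((L.toFinset : Finset (FreeGroup (Fin 3))) : Set (FreeGroup (Fin 3))) ≃*
      ↥(Cfsg.SU 3 F q)) := by
    rw [hset]; exact ⟨e.trans e'⟩
  refine ⟨⟨L.toFinset, (List.toFinset_card_le L).trans hL, ⟨E⟩⟩, ?_⟩
  obtain ⟨R', hR', hE'⟩ := SLBounded.quot_pres L.toFinset E (Subgroup.center (Cfsg.SU 3 F q)) (center_cyclic hF)
  exact ⟨R', hR'.trans (by have := List.toFinset_card_le L; omega), hE'⟩

end CfsgLib.Known.SU3Bounded
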