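import Mathlib
import Cfsg.Prelude.Def_Classical
import Cfsg.Agent.Lib.Classical.Unitary.Field

/-!
# Unitary transvections, torus and Weyl element of the antidiagonal Hermitian form in dimension three
-/

set_option autoImplicit false

open Matrix

namespace CfsgLib.Known.SU3Bounded

variable {F : Type*} [Field F] (σ : F →+* F)

/-- parameters of the unipotent radical -/
abbrev Pt : Type _ := {u : F × F // u.2 + σ u.2 = -(u.1 * σ u.1)}

/-- the antidiagonal form -/
def anti (u v : Fin 3 → F) : F := u 0 * σ (v 2) + u 1 * σ (v 1) + u 2 * σ (v 0)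

/-- its special isometry group -/
def AU : Subgroup (SpecialLinearGroup (Fin 3) F) := Cfsg.preserving (Cfsg.slToMat 3 F) (anti σ)

theorem slToMat_apply (g : SpecialLinearGroup (Fin 3) F) : Cfsg.slToMat 3 F g = (g : Matrix (Fin 3) (Fin 3) F) :=
  rfl

theorem mem_AU {g : SpecialLinearGroup (Fin 3) F} :
    g ∈ AU σ ↔ ∀ u v, anti σ ((g : Matrix (Fin 3) (Fin 3) F) *ᵥ u) ((g : Matrix (Fin 3) (Fin 3) F) *ᵥ v) =
      anti σ u v := Iff.rfl

theorem mulVec_three (A : Matrix (Fin 3) (Fin 3) F) (u : Fin 3 → F) (i : Fin 3) :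
    (A *ᵥ u) i = A i 0 * u 0 + A i 1 * u 1 + A i 2 * u 2 := by
  simp [Matrix.mulVec, dotProduct, Fin.sum_univ_three]

/-- the unipotent element with parameters `(a, b)` -/
def uMat (u : F × F) : SpecialLinearGroup (Fin 3) F :=
  ⟨!![1, u.1, u.2; 0, 1, -σ u.1; 0, 0, 1], by simp [Matrix.det_fin_three]⟩

/-- the torus -/
def dMat (t : Fˣ) : SpecialLinearGroup (Fin 3) F :=
  ⟨!![(t : F), 0, 0; 0, σ t / t, 0; 0, 0, (σ t)⁻¹], by
    have := t.ne_zero
    have : σ (t : F) ≠ 0 := (map_ne_zero σ).2 t.ne_zero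
    simp [Matrix.det_fin_three]
    field_simp⟩

/-- the Weyl element -/
def wMat : SpecialLinearGroup (Fin 3) F :=
  ⟨!![0, 0, 1; 0, -1, 0; 1, 0, 0], by simp [Matrix.det_fin_three]⟩

theorem coe_uMat (u : F × F) :
    ((uMat σ u : SpecialLinearGroup (Fin 3) F) : Matrix (Fin 3) (Fin 3) F) = !![1, u.1, u.2; 0, 1, -σ u.1; 0, 0, 1] :=
  rfl

theorem coe_dMat (t : Fˣ) :
    ((dMat σ t : SpecialLinearGroup (Fin 3) F) : Matrix (Fin 3) (Fin 3) F) =
      !![(t : F), 0, 0; 0, σ t / t, 0; 0, 0, (σ t)⁻¹] :=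
  rfl

theorem coe_wMat :
    ((wMat : SpecialLinearGroup (Fin 3) F) : Matrix (Fin 3) (Fin 3) F) = !![0, 0, 1; 0, -1, 0; 1, 0, 0] :=
  rfl

theorem uMat_inj {u v : F × F} (h : uMat σ u = uMat σ v) : u = v := by
  have h1 := congrArg (fun g : SpecialLinearGroup (Fin 3) F => g.1 0 1) h
  have h2 := congrArg (fun g : SpecialLinearGroup (Fin 3) F => g.1 0 2) h
  simp [coe_uMat] at h1 h2
  exact Prod.ext h1 h2

theorem uMat_mul (u v : F × F) : uMat σ u * uMat σ v = uMat σ (u.1 + v.1, u.2 + v.2 - u.1 * σ v.1) := by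
  refine Subtype.ext ?_
  rw [Matrix.SpecialLinearGroup.coe_mul, coe_uMat, coe_uMat, coe_uMat]
  ext i j
  fin_cases i <;> fin_cases j <;> simp [Matrix.mul_apply, Fin.sum_univ_three, add_comm, sub_eq_add_neg] <;> ring

theorem uMat_one : uMat σ (0, 0) = 1 := by
  refine Subtype.ext ?_
  rw [coe_uMat, Matrix.SpecialLinearGroup.coe_one]
  ext i j
  fin_cases i <;> fin_cases j <;> simp

/-- the torus as a homomorphism -/
def dHom : Fˣ →* SpecialLinearGroup (Fin 3) F where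
  toFun := dMat σ
  map_one' := Subtype.ext (by
    rw [coe_dMat, Matrix.SpecialLinearGroup.coe_one]
    ext i j
    fin_cases i <;> fin_cases j <;> simp)
  map_mul' s t := Subtype.ext (by
    rw [Matrix.SpecialLinearGroup.coe_mul, coe_dMat, coe_dMat, coe_dMat]
    ext i j
    fin_cases i <;> fin_cases j <;>
      simp [Matrix.mul_apply, Fin.sum_univ_three, mul_comm, mul_div_mul_comm, mul_inv])

theorem dHom_apply (t : Fˣ) : dHom σ t = dMat σ t := rfl

theorem wMat_sq : (wMat : SpecialLinearGroup (Fin 3) F) * wMat = 1 := by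
  refine Subtype.ext ?_
  rw [Matrix.SpecialLinearGroup.coe_mul, coe_wMat, Matrix.SpecialLinearGroup.coe_one]
  ext i j
  fin_cases i <;> fin_cases j <;> simp [Matrix.mul_apply, Fin.sum_univ_three]

variable {σ} (hσ : Classical.Herm.IsInvol σ)
include hσ

theorem wMat_dMat (t : Fˣ) :
    wMat * dMat σ t = dMat σ (Units.map (σ : F →* F) t)⁻¹ * wMat := by
  have := t.ne_zero
  have h1 : σ (t : F) ≠ 0 := (map_ne_zero σ).2 t.ne_zero
  refine Subtype.ext ?_
  rw [Matrix.SpecialLinearGroup.coe_mul, Matrix.SpecialLinearGroup.coe_mul, coe_wMat, coe_dMat, coe_dMat]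
  ext i j
  fin_cases i <;> fin_cases j <;> simp [Matrix.mul_apply, Fin.sum_univ_three, hσ.invol] <;> field_simp

theorem dMat_uMat (t : Fˣ) (u : F × F) :
    dMat σ t * uMat σ u = uMat σ ((t : F) ^ 2 / σ t * u.1, (t : F) * σ t * u.2) * dMat σ t := by
  have := t.ne_zero
  have h1 : σ (t : F) ≠ 0 := (map_ne_zero σ).2 t.ne_zero
  refine Subtype.ext ?_
  rw [Matrix.SpecialLinearGroup.coe_mul, Matrix.SpecialLinearGroup.coe_mul, coe_uMat, coe_uMat, coe_dMat]
  ext i j
  fin_cases i <;> fin_cases j <;> simp [Matrix.mul_apply, Fin.sum_univ_three, hσ.invol] <;> field_simp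

omit hσ in
theorem wMat_mem : (wMat : SpecialLinearGroup (Fin 3) F) ∈ AU σ := by
  intro u v
  simp only [anti, slToMat_apply, coe_wMat, mulVec_three]
  simp
  ring

theorem dMat_mem (t : Fˣ) : dMat σ t ∈ AU σ := by
  have := t.ne_zero
  have h1 : σ (t : F) ≠ 0 := (map_ne_zero σ).2 t.ne_zero
  intro u v
  simp only [anti, slToMat_apply, coe_dMat, mulVec_three]
  simp [hσ.invol]
  field_simp

theorem uMat_mem {u : F × F} (hu : u.2 + σ u.2 = -(u.1 * σ u.1)) : uMat σ u ∈ AU σ := by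
  intro x y
  simp only [anti, slToMat_apply, coe_uMat, mulVec_three]
  simp [hσ.invol]
  linear_combination x 2 * σ (y 2) * hu

/-- upper triangular isometries -/
theorem triangular {g : SpecialLinearGroup (Fin 3) F} (hg : g ∈ AU σ) (h10 : g.1 1 0 = 0) (h20 : g.1 2 0 = 0) :
    ∃ (u : F × F) (t : Fˣ), u.2 + σ u.2 = -(u.1 * σ u.1) ∧ g = uMat σ u * dMat σ t := by
  have hd := g.2
  rw [Matrix.det_fin_three, h10, h20] at hd
  simp at hd
  have e : ∀ i j : Fin 3, g.1 0 i * σ (g.1 2 j) + g.1 1 i * σ (g.1 1 j) + g.1 2 i * σ (g.1 0 j) =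
      anti σ (Pi.single i 1) (Pi.single j 1) := fun i j => by
    rw [← (mem_AU σ).1 hg]
    simp [anti, mulVec_three, Pi.single_apply]
    fin_cases i <;> fin_cases j <;> simp
  have e00 : g.1 0 0 ≠ 0 := fun h => by rw [h] at hd; simp at hd
  have e01 := e 0 1
  simp [anti, h10, h20] at e01
  have h21 : g.1 2 1 = 0 := e01.resolve_left e00
  have e02 := e 0 2
  simp [anti, h10, h20] at e02
  have e11 := e 1 1
  simp [anti, h21] at e11
  have e12 := e 1 2
  simp [anti, h21] at e12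
  have e22 := e 2 2
  simp [anti] at e22
  rw [h21] at hd
  simp at hd
  obtain ⟨t, ht⟩ : ∃ t : Fˣ, (t : F) = g.1 0 0 := ⟨Units.mk0 _ e00, rfl⟩
  have hσ0 : σ (g.1 0 0) ≠ 0 := (map_ne_zero σ).2 e00
  have h22 : g.1 2 2 = (σ (g.1 0 0))⁻¹ := by
    have := congrArg σ e02
    rw [map_mul, hσ.invol, map_one] at this
    exact eq_inv_of_mul_eq_one_right this
  have h11 : g.1 1 1 = σ (g.1 0 0) / g.1 0 0 := by
    rw [h22] at hd
    field_simp at hd ⊢
    linear_combination hd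
  have h11n : g.1 1 1 ≠ 0 := by rw [h11]; exact div_ne_zero hσ0 e00
  refine ⟨(g.1 0 1 / g.1 1 1, g.1 0 2 * σ (g.1 0 0)), t, ?_, ?_⟩
  · have hb : g.1 1 2 = -σ (g.1 0 1 / g.1 1 1) * g.1 2 2 := by
      have := congrArg σ e12
      simp only [map_add, map_mul, hσ.invol, map_zero] at this
      rw [h22] at this ⊢
      have h1 : σ (g.1 1 1) ≠ 0 := (map_ne_zero σ).2 h11n
      rw [map_div₀]
      field_simp at this ⊢
      linear_combination this
    rw [hb, h22] at e22
    simp only [map_mul, map_neg, map_inv₀, hσ.invol, map_div₀] at e22 ⊢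
    have h1 : σ (g.1 1 1) ≠ 0 := (map_ne_zero σ).2 h11n
    field_simp at e22 ⊢
    linear_combination e22
  · refine Subtype.ext ?_
    have hb : g.1 1 2 = -σ (g.1 0 1 / g.1 1 1) * g.1 2 2 := by
      have := congrArg σ e12
      simp only [map_add, map_mul, hσ.invol, map_zero] at this
      rw [h22] at this ⊢
      have h1 : σ (g.1 1 1) ≠ 0 := (map_ne_zero σ).2 h11n
      rw [map_div₀]
      field_simp at this ⊢
      linear_combination this
    rw [Matrix.SpecialLinearGroup.coe_mul, coe_uMat, coe_dMat]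
    ext i j
    fin_cases i <;> fin_cases j <;>
      simp [Matrix.mul_apply, Fin.sum_univ_three, ht, h10, h20, h21, hb, h22, h11] <;> field_simp

/-- every isometry is in normal form -/
theorem decompose {g : SpecialLinearGroup (Fin 3) F} (hg : g ∈ AU σ) :
    (∃ (u : F × F) (t : Fˣ), u.2 + σ u.2 = -(u.1 * σ u.1) ∧ g = uMat σ u * dMat σ t) ∨
    ∃ (u : F × F) (t : Fˣ) (v : F × F), u.2 + σ u.2 = -(u.1 * σ u.1) ∧ v.2 + σ v.2 = -(v.1 * σ v.1) ∧
      g = uMat σ u * dMat σ t * wMat * uMat σ v := by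
  have hiso : g.1 0 0 * σ (g.1 2 0) + g.1 1 0 * σ (g.1 1 0) + g.1 2 0 * σ (g.1 0 0) = 0 := by
    have := (mem_AU σ).1 hg (Pi.single 0 1) (Pi.single 0 1)
    simpa [anti, mulVec_three] using this
  by_cases h20 : g.1 2 0 = 0
  · rw [h20] at hiso
    simp at hiso
    exact Or.inl (triangular hσ hg hiso h20)
  have h1 : σ (g.1 2 0) ≠ 0 := (map_ne_zero σ).2 h20
  obtain ⟨u, hu⟩ : ∃ u : F × F, u = (-σ (g.1 1 0 / g.1 2 0), g.1 0 0 / g.1 2 0) := ⟨_, rfl⟩
  have hu' : u.2 + σ u.2 = -(u.1 * σ u.1) := by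
    rw [hu]
    simp only [map_div₀, map_neg, hσ.invol]
    field_simp
    linear_combination hiso
  have hmem : wMat * (uMat σ u)⁻¹ * g ∈ AU σ :=
    mul_mem (mul_mem (wMat_mem (σ := σ)) (inv_mem (uMat_mem hσ hu'))) hg
  have hinv : (uMat σ u)⁻¹ = uMat σ (-u.1, σ u.2) := by
    refine (eq_inv_of_mul_eq_one_right ?_).symm
    rw [uMat_mul, ← uMat_one σ]
    congr 1
    refine Prod.ext (add_neg_cancel _) ?_
    simp only [map_neg]
    linear_combination hu'
  obtain ⟨v, s, hv, e⟩ := triangular hσ hmem (by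
    rw [hinv, Matrix.SpecialLinearGroup.coe_mul, Matrix.SpecialLinearGroup.coe_mul, coe_uMat, coe_wMat, hu]
    simp [Matrix.mul_apply, Fin.sum_univ_three, hσ.invol]
    field_simp
    ring) (by
    rw [hinv, Matrix.SpecialLinearGroup.coe_mul, Matrix.SpecialLinearGroup.coe_mul, coe_uMat, coe_wMat, hu]
    simp [Matrix.mul_apply, Fin.sum_univ_three, hσ.invol]
    field_simp
    linear_combination hiso)
  refine Or.inr ⟨u, (Units.map (σ : F →* F) s)⁻¹,
    (((s⁻¹ : Fˣ) : F) ^ 2 / σ ((s⁻¹ : Fˣ) : F) * v.1, ((s⁻¹ : Fˣ) : F) * σ ((s⁻¹ : Fˣ) : F) * v.2), hu', ?_, ?_⟩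
  · simp only [map_mul, map_div₀, map_pow, hσ.invol]
    have := (map_ne_zero σ).2 (s⁻¹).ne_zero
    field_simp
    linear_combination hv
  · have hs : ∀ x y : F × F, dMat σ s * uMat σ (((s⁻¹ : Fˣ) : F) ^ 2 / σ ((s⁻¹ : Fˣ) : F) * x.1,
        ((s⁻¹ : Fˣ) : F) * σ ((s⁻¹ : Fˣ) : F) * x.2) = uMat σ x * dMat σ s := fun x _ => by
      rw [dMat_uMat hσ]
      have := s.ne_zero
      have : σ (s : F) ≠ 0 := (map_ne_zero σ).2 s.ne_zero
      congr 2
      refine Prod.ext ?_ ?_ <;> simp <;> field_simp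
    calc g = uMat σ u * wMat * (wMat * (uMat σ u)⁻¹ * g) := by
          rw [show uMat σ u * wMat * (wMat * (uMat σ u)⁻¹ * g) = uMat σ u * (wMat * wMat) * (uMat σ u)⁻¹ * g by
            group, wMat_sq, mul_one, mul_inv_cancel, one_mul]
      _ = _ := by
          rw [e, ← hs v v, mul_assoc (uMat σ u) wMat, ← mul_assoc wMat, wMat_dMat hσ]
          simp only [mul_assoc]

end CfsgLib.Known.SU3Bounded
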