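import Cfsg.Agent.Lib.Known.SU3Bounded.Eval
import Cfsg.Agent.Lib.Known.SU3Bounded.Lattice

/-!
# The unipotent radical of the Borel subgroup of `SU₃` from boundedly many relations
-/

set_option autoImplicit false

open Polynomial
open CfsgLib.Known.SL2Bounded (cj cj_zero cj_pow conj_cj map_cj word map_word word_mem word_add word_zero word_congr
  word_X_mul comm_closure comm_of_invariant)

namespace CfsgLib.Known.SU3Bounded

variable {G : Type*} [Group G]

/-- the commutator -/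
def cmt (x y : G) : G := x * y * x⁻¹ * y⁻¹

theorem cmt_eq_one {x y : G} (h : cmt x y = 1) : Commute x y := by
  rw [cmt, mul_inv_eq_one, mul_inv_eq_iff_eq_mul] at h
  exact h

/-- the central element -/
def zel (a h : G) : G := cmt a (cj a h 1)

/-- its conjugates -/
def Z0 (a h : G) : Subgroup G := Subgroup.closure (Set.range fun n : ℤ => cj (zel a h) h n)

/-- the conjugates of the first generator -/
def Ugr (a h : G) : Subgroup G := Subgroup.closure (Set.range fun n : ℤ => cj a h n)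

/-- three lines for the norm-one torus -/
def S0 (a h : G) (q : ℕ) : Subgroup G :=
  Subgroup.closure (Set.range fun kr : ℤ × Fin 3 => cj a h (((q : ℤ) - 1) * kr.1 + (kr.2 : ℕ))) ⊔ Z0 a h

/-- a line for the fixed field -/
def Line (a h : G) (q : ℕ) (r : ℤ) : Subgroup G :=
  Subgroup.closure (Set.range fun k : ℤ => cj a h (((q : ℤ) + 1) * k + r))

theorem cj_periodic {a h : G} {Q : ℕ} (hQ : 0 < Q) (hh : h ^ Q = 1) (n : ℤ) :
    cj a h n = cj a h ((n % (Q : ℤ)).toNat : ℤ) := by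
  rw [Int.toNat_of_nonneg (Int.emod_nonneg _ (by omega))]
  simp only [cj]
  conv_lhs => rw [← Int.emod_add_mul_ediv n (Q : ℤ)]
  rw [zpow_add, zpow_mul h (Q : ℤ), zpow_natCast, hh, one_zpow, mul_one]

theorem mem_words {p : ℕ} [Fact p.Prime] {a h : G} {Q : ℕ} (hQ : 0 < Q) (hh : h ^ Q = 1) (ha : a ^ p = 1)
    (hc : ∀ m n : ℕ, Commute (cj a h m) (cj a h n)) {g : G} (hg : g ∈ Ugr a h) :
    ∃ P : (ZMod p)[X], g = word a h P := by
  induction hg using Subgroup.closure_induction with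
  | mem g hg =>
    obtain ⟨n, rfl⟩ := hg
    refine ⟨X ^ (n % (Q : ℤ)).toNat, ?_⟩
    show cj a h n = _
    rw [cj_periodic hQ hh n]
    induction (n % (Q : ℤ)).toNat with
    | zero => rw [pow_zero, SL2Bounded.word_one, Nat.cast_zero, cj_zero]
    | succ k ih => rw [pow_succ', word_X_mul, ← ih, Nat.cast_succ, add_comm, ← conj_cj, zpow_one]
  | one => exact ⟨0, (word_zero a h).symm⟩
  | mul x y _ _ hx hy =>
    obtain ⟨P, rfl⟩ := hx
    obtain ⟨R, rfl⟩ := hy
    exact ⟨P + R, (word_add hc ha P R).symm⟩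
  | inv x _ hx =>
    obtain ⟨P, rfl⟩ := hx
    refine ⟨-P, inv_eq_of_mul_eq_one_right ?_⟩
    rw [← word_add hc ha, add_neg_cancel, word_zero]

variable {F : Type*} [Field F] [Finite F] {p : ℕ} [Fact p.Prime] [Algebra (ZMod p) F]

/-- the relations of the Borel subgroup -/
structure Facts (p : ℕ) [Algebra (ZMod p) F] (σ : F →+* F) (ω : Fˣ) (q : ℕ) (a h : G) : Prop where
  hord : h ^ (q ^ 2 - 1) = 1
  zp : zel a h ^ p = 1
  zmin : word (zel a h) h (minpoly (ZMod p) (nu σ ω : F)) = 1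
  zper : (∃ j : ℕ, cj (zel a h) h j = zel a h * cj (zel a h) h 1) ∨ q = 3
  zc : Commute (cj (zel a h) h 1) (zel a h)
  hz : Commute (h ^ ((q : ℤ) - 1)) (zel a h)
  az : ∀ r : Fin 3, Commute (cj a h (r : ℕ)) (zel a h)
  aW : cj a h 3 ∈ S0 a h q
  ap : a ^ p ∈ Z0 a h
  aper : (∃ j : ℕ, cj a h (((q : ℤ) + 1) * j) * (a * cj a h ((q : ℤ) + 1))⁻¹ ∈ Z0 a h) ∨ q = 3
  aa : cmt (cj a h ((q : ℤ) + 1)) a ∈ Z0 a h
  aa1 : cmt (cj a h ((q : ℤ) + 1)) (cj a h 1) ∈ Z0 a h
  a2 : cj a h 2 ∈ Line a h q 0 ⊔ Line a h q 1 ⊔ Z0 a h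
  amin : word a h (minpoly (ZMod p) (kap σ ω : F)) ∈ Z0 a h

namespace Facts

variable {σ : F →+* F} {ω : Fˣ} {q : ℕ} {a h : G} (R : Facts p σ ω q a h) (h3 : 3 ≤ q)
include R h3

theorem pos : 0 < q ^ 2 - 1 := by
  have : 3 * q ≤ q ^ 2 := by nlinarith
  omega

theorem z_comm (m n : ℤ) : Commute (cj (zel a h) h m) (cj (zel a h) h n) := by
  refine commute_orbit R.zc (R.zper.imp id fun e => ?_) m n
  have h2 := R.hz
  rw [e, show ((3 : ℕ) : ℤ) - 1 = 2 by norm_num] at h2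
  rw [cj, h2.eq, mul_inv_cancel_right]

theorem z0_conj (k : ℤ) : ∀ x ∈ Z0 a h, h ^ k * x * (h ^ k)⁻¹ ∈ Z0 a h :=
  SL2Bounded.conj_closure_mem (by
    rintro _ ⟨n, rfl⟩
    rw [conj_cj]
    exact Subgroup.subset_closure ⟨_, rfl⟩)

theorem a_z (m n : ℤ) : Commute (cj a h m) (cj (zel a h) h n) := by
  obtain ⟨C, hC⟩ : ∃ C, C = Subgroup.centralizer ({zel a h} : Set G) := ⟨_, rfl⟩
  have memC : ∀ x, x ∈ C ↔ Commute x (zel a h) := fun x => by
    rw [hC, Subgroup.mem_centralizer_singleton_iff]; rfl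
  have hshift : ∀ (k r : ℤ), Commute (cj a h r) (zel a h) → Commute (cj a h (((q : ℤ) - 1) * k + r)) (zel a h) := by
    intro k r e
    have hk : Commute (h ^ (((q : ℤ) - 1) * k)) (zel a h) := by rw [zpow_mul]; exact R.hz.zpow_left k
    have e1 := e.map (MulAut.conj (h ^ (((q : ℤ) - 1) * k))).toMonoidHom
    simp only [MulEquiv.coe_toMonoidHom, MulAut.conj_apply] at e1
    rwa [conj_cj, hk.eq, mul_inv_cancel_right] at e1
  have hZC : Z0 a h ≤ C := (Subgroup.closure_le _).2 (by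
    rintro _ ⟨k, rfl⟩
    have := R.z_comm h3 k 0
    rw [cj_zero] at this
    exact (memC _).2 this)
  have key : ∀ n : ℕ, Commute (cj a h n) (zel a h) := by
    intro n
    induction n using Nat.strong_induction_on with
    | _ n ih =>
      by_cases hn : n < 3
      · exact R.az ⟨n, hn⟩
      obtain ⟨m, rfl⟩ : ∃ m, n = m + 3 := ⟨n - 3, by omega⟩
      have hle : S0 a h q ≤ C.comap (MulAut.conj (h ^ (m : ℤ))).toMonoidHom := by
        refine sup_le ((Subgroup.closure_le _).2 ?_) fun x hx => hZC (R.z0_conj h3 m x hx)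
        rintro _ ⟨⟨k, r⟩, rfl⟩
        simp only [SetLike.mem_coe, Subgroup.mem_comap, MulEquiv.coe_toMonoidHom, MulAut.conj_apply]
        rw [conj_cj, memC, show (m : ℤ) + (((q : ℤ) - 1) * k + (r : ℕ)) = ((q : ℤ) - 1) * k + ((m + r : ℕ) : ℤ) by
          push_cast; ring]
        exact hshift _ _ (ih _ (by omega))
      have := hle R.aW
      simp only [Subgroup.mem_comap, MulEquiv.coe_toMonoidHom, MulAut.conj_apply] at this
      rw [conj_cj, memC] at this
      exact_mod_cast this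
  have keyz : ∀ k : ℤ, Commute (cj a h k) (zel a h) := fun k => by
    rw [cj_periodic (R.pos h3) R.hord k]; exact key _
  have e := shift_commute (α := a) (β := zel a h) (h := h) n (m - n) 0 (by rw [cj_zero]; exact keyz _)
  rwa [add_sub_cancel, add_zero] at e

theorem u_z {x y : G} (hx : x ∈ Ugr a h) (hy : y ∈ Z0 a h) : Commute x y := by
  have h1 : Ugr a h ≤ Subgroup.centralizer (Z0 a h : Set G) := by
    refine (Subgroup.closure_le _).2 ?_
    rintro _ ⟨m, rfl⟩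
    refine Subgroup.mem_centralizer_iff.2 fun z hz => ?_
    have h2 : Z0 a h ≤ Subgroup.centralizer {cj a h m} := (Subgroup.closure_le _).2 (by
      rintro _ ⟨n, rfl⟩
      exact Subgroup.mem_centralizer_singleton_iff.2 (R.a_z h3 m n).symm.eq)
    exact Subgroup.mem_centralizer_singleton_iff.1 (h2 hz)
  exact (Subgroup.mem_centralizer_iff.1 (h1 hx) y hy).symm

theorem z0_le : Z0 a h ≤ Ugr a h := by
  refine (Subgroup.closure_le _).2 ?_
  rintro _ ⟨n, rfl⟩
  show cj (zel a h) h n ∈ _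
  have e : cj (zel a h) h n = cmt (cj a h n) (cj a h (n + 1)) := by
    rw [zel, ← conj_cj a h n 1]
    simp only [cj, cmt]
    group
  have hm : ∀ k : ℤ, cj a h k ∈ Ugr a h := fun k => Subgroup.subset_closure ⟨k, rfl⟩
  rw [e]
  exact mul_mem (mul_mem (mul_mem (hm _) (hm _)) (inv_mem (hm _))) (inv_mem (hm _))

theorem z_words {x : G} (hx : x ∈ Z0 a h) : ∃ P : (ZMod p)[X], x = word (zel a h) h P :=
  mem_words (R.pos h3) R.hord R.zp (fun m n => R.z_comm h3 m n) hx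

theorem quotient_words {g : G} (hg : g ∈ Ugr a h) :
    ∃ P : (ZMod p)[X], g * (word a h P)⁻¹ ∈ Z0 a h ∧
      (aeval (kap σ ω : F) P = 0 → word a h P ∈ Z0 a h) := by
  obtain ⟨N, hN⟩ : ∃ N, N = Subgroup.closure ({a, h} : Set G) := ⟨_, rfl⟩
  have haN : a ∈ N := hN ▸ Subgroup.subset_closure (by simp)
  have hhN : h ∈ N := hN ▸ Subgroup.subset_closure (by simp)
  have hcjN : ∀ n : ℤ, cj a h n ∈ N := fun n =>
    mul_mem (mul_mem (zpow_mem hhN n) haN) (inv_mem (zpow_mem hhN n))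
  have hUN : Ugr a h ≤ N := (Subgroup.closure_le _).2 (by rintro _ ⟨n, rfl⟩; exact hcjN n)
  have hnorm : N ≤ Subgroup.normalizer (Z0 a h : Set G) := by
    rw [hN, Subgroup.closure_le]
    rintro x (rfl | rfl)
    · refine Subgroup.mem_normalizer_iff.2 fun y => ?_
      have ha : x ∈ Ugr x h := Subgroup.subset_closure ⟨0, cj_zero _ _⟩
      constructor
      · intro hy
        rwa [(R.u_z h3 ha hy).eq, mul_inv_cancel_right]
      · intro hy
        have hc := R.u_z h3 (inv_mem ha) hy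
        have e : y = x⁻¹ * (x * y * x⁻¹) * x := by group
        rw [e, hc.eq, inv_mul_cancel_right]
        exact hy
    · refine Subgroup.mem_normalizer_iff.2 fun y => ⟨fun hy => by simpa using R.z0_conj h3 1 y hy, fun hy => ?_⟩
      have := R.z0_conj h3 (-1) _ hy
      rw [zpow_neg_one, inv_inv, show x⁻¹ * (x * y * x⁻¹) * x = y by group] at this
      exact this
  have hZN : Z0 a h ≤ N := le_trans (R.z0_le h3) hUN
  haveI : ((Z0 a h).subgroupOf N).Normal := (Subgroup.normal_subgroupOf_iff_le_normalizer hZN).2 hnorm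
  obtain ⟨φ, hφdef⟩ : ∃ φ : N →* N ⧸ (Z0 a h).subgroupOf N, φ = QuotientGroup.mk' _ := ⟨_, rfl⟩
  have hφ : ∀ x : N, φ x = 1 ↔ (x : G) ∈ Z0 a h := fun x => by
    rw [hφdef, QuotientGroup.mk'_apply, QuotientGroup.eq_one_iff, Subgroup.mem_subgroupOf]
  obtain ⟨aN, haN'⟩ : ∃ x : N, x = ⟨a, haN⟩ := ⟨_, rfl⟩
  obtain ⟨hN', hhN'⟩ : ∃ x : N, x = ⟨h, hhN⟩ := ⟨_, rfl⟩
  have ha' : (aN : G) = a := by rw [haN']
  have hh' : (hN' : G) = h := by rw [hhN']
  obtain ⟨A, hA⟩ : ∃ A, A = φ aN := ⟨_, rfl⟩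
  obtain ⟨H, hH⟩ : ∃ H, H = φ hN' := ⟨_, rfl⟩
  have hcj : ∀ n : ℤ, ((cj aN hN' n : N) : G) = cj a h n := fun n => by
    rw [← ha', ← hh']; exact map_cj N.subtype aN hN' n
  have hφcj : ∀ n : ℤ, φ (cj aN hN' n) = cj A H n := fun n => by rw [hA, hH]; exact map_cj φ aN hN' n
  have comm_of : ∀ m n : ℤ, cmt (cj a h m) (cj a h n) ∈ Z0 a h → Commute (cj A H m) (cj A H n) := by
    intro m n e
    refine cmt_eq_one ?_
    have : φ (cmt (cj aN hN' m) (cj aN hN' n)) = 1 := (hφ _).2 (by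
      simpa only [cmt, Subgroup.coe_mul, Subgroup.coe_inv, hcj] using e)
    simpa only [cmt, map_mul, map_inv, hφcj] using this
  have hq1 : ∀ k : ℤ, cj A (H ^ ((q : ℤ) + 1)) k = cj A H (((q : ℤ) + 1) * k) := fun k => cj_pow _ _ _ _
  have hcc : ∀ m k : ℤ, cj (cj A H m) (H ^ ((q : ℤ) + 1)) k = cj A H (((q : ℤ) + 1) * k + m) := fun m k => by
    rw [← conj_cj]
    show (H ^ ((q : ℤ) + 1)) ^ k * cj A H m * ((H ^ ((q : ℤ) + 1)) ^ k)⁻¹ = _
    rw [← zpow_mul]
  have hQH : H ^ (q ^ 2 - 1) = 1 := by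
    rw [hH, ← map_pow, hφ, Subgroup.coe_pow, hh', R.hord]
    exact one_mem _
  have hper : (∃ j : ℕ, cj A (H ^ ((q : ℤ) + 1)) j = A * cj A (H ^ ((q : ℤ) + 1)) 1) ∨
      cj A (H ^ ((q : ℤ) + 1)) 2 = A := by
    rcases R.aper with ⟨j, hj⟩ | e
    · refine Or.inl ⟨j, ?_⟩
      rw [hq1, hq1, mul_one, ← mul_inv_eq_one]
      have : φ (cj aN hN' (((q : ℤ) + 1) * j) * (aN * cj aN hN' ((q : ℤ) + 1))⁻¹) = 1 := (hφ _).2 (by
        simpa only [Subgroup.coe_mul, Subgroup.coe_inv, hcj, ha'] using hj)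
      simpa only [map_mul, map_inv, hφcj, ← hA] using this
    · refine Or.inr ?_
      rw [hq1, cj_periodic (R.pos h3) hQH, e]
      norm_num [cj_zero]
  have h1A : Commute (cj A H ((q : ℤ) + 1)) A := by
    simpa [cj_zero] using comm_of ((q : ℤ) + 1) 0 (by rw [cj_zero]; exact R.aa)
  have horbit : ∀ k l : ℤ, Commute (cj A H (((q : ℤ) + 1) * k)) (cj A H (((q : ℤ) + 1) * l)) := fun k l => by
    rw [← hq1, ← hq1]
    exact commute_orbit (by rw [hq1, mul_one]; exact h1A) hper k l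
  have hcross : ∀ k l : ℤ, Commute (cj A H (((q : ℤ) + 1) * k)) (cj A H (((q : ℤ) + 1) * l + 1)) := by
    intro k l
    have e1 : ∀ k : ℤ, cj (cj A H 1) (H ^ ((q : ℤ) + 1)) k = H * cj A (H ^ ((q : ℤ) + 1)) k * H⁻¹ := fun k => by
      rw [hcc, hq1, add_comm, ← conj_cj, zpow_one]
    have hh0 : Commute A (cj A H 1) := by
      simpa [cj_zero] using comm_of 0 1 (by
        rw [cj_zero]; exact Subgroup.subset_closure ⟨0, cj_zero _ _⟩)
    have e0 : cj A H 1 = H * A * H⁻¹ := by rw [← add_zero (1 : ℤ), ← conj_cj, zpow_one, cj_zero]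
    have hper2 : (∃ j : ℕ, cj A (H ^ ((q : ℤ) + 1)) j = A * cj A (H ^ ((q : ℤ) + 1)) 1 ∧
        cj (cj A H 1) (H ^ ((q : ℤ) + 1)) j = cj A H 1 * cj (cj A H 1) (H ^ ((q : ℤ) + 1)) 1) ∨
        (cj A (H ^ ((q : ℤ) + 1)) 2 = A ∧ cj (cj A H 1) (H ^ ((q : ℤ) + 1)) 2 = cj A H 1) := by
      rcases hper with ⟨j, hj⟩ | e
      · refine Or.inl ⟨j, hj, ?_⟩
        rw [e1, e1, hj, e0]; group
      · exact Or.inr ⟨e, by rw [e1, e, e0]⟩
    have := commute_lattice hh0 (by rw [hq1, mul_one]; exact comm_of _ _ R.aa1) hper2 (k - l)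
    rw [hq1] at this
    have e := shift_commute (α := A) (β := A) (h := H) (((q : ℤ) + 1) * l) (((q : ℤ) + 1) * (k - l)) 1 this
    rwa [← mul_add, add_sub_cancel] at e
  obtain ⟨V, hV⟩ : ∃ V, V = Subgroup.closure
      (Set.range fun kr : ℤ × Fin 2 => cj A H (((q : ℤ) + 1) * kr.1 + (kr.2 : ℕ))) := ⟨_, rfl⟩
  have hVmem : ∀ (k : ℤ) (r : Fin 2), cj A H (((q : ℤ) + 1) * k + (r : ℕ)) ∈ V :=
    fun k r => hV ▸ Subgroup.subset_closure ⟨(k, r), rfl⟩
  have hVc : ∀ x ∈ V, ∀ y ∈ V, Commute x y := by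
    rw [hV]
    refine comm_closure ?_
    rintro _ ⟨⟨k, r⟩, rfl⟩ _ ⟨⟨l, s⟩, rfl⟩
    fin_cases r <;> fin_cases s <;> simp only [Nat.cast_zero, Nat.cast_one, add_zero]
    · exact horbit k l
    · exact hcross k l
    · exact (hcross l k).symm
    · have e := shift_commute (α := A) (β := A) (h := H) 1 _ _ (horbit k l)
      rwa [add_comm 1, add_comm 1] at e
  have ha2 : cj A H 2 ∈ V := by
    let K : Subgroup G := (V.comap φ).map N.subtype
    have hK : Line a h q 0 ⊔ Line a h q 1 ⊔ Z0 a h ≤ K := by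
      refine sup_le (sup_le ?_ ?_) fun x hx => ?_
      · refine (Subgroup.closure_le _).2 ?_
        rintro _ ⟨k, rfl⟩
        refine ⟨cj aN hN' (((q : ℤ) + 1) * k + 0), ?_, hcj _⟩
        rw [SetLike.mem_coe, Subgroup.mem_comap, hφcj]
        simpa using hVmem k 0
      · refine (Subgroup.closure_le _).2 ?_
        rintro _ ⟨k, rfl⟩
        refine ⟨cj aN hN' (((q : ℤ) + 1) * k + 1), ?_, hcj _⟩
        rw [SetLike.mem_coe, Subgroup.mem_comap, hφcj]
        simpa using hVmem k 1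
      · refine ⟨⟨x, hZN hx⟩, ?_, rfl⟩
        rw [SetLike.mem_coe, Subgroup.mem_comap, (hφ _).2 hx]
        exact one_mem V
    obtain ⟨x, hx, e⟩ := hK R.a2
    have : x = cj aN hN' 2 := Subtype.ext (e.trans (hcj 2).symm)
    rw [this, SetLike.mem_coe, Subgroup.mem_comap, hφcj] at hx
    exact hx
  have hVshift : ∀ (k : ℤ), ∀ x ∈ V, H ^ (((q : ℤ) + 1) * k) * x * (H ^ (((q : ℤ) + 1) * k))⁻¹ ∈ V := by
    intro k
    rw [hV]
    refine SL2Bounded.conj_closure_mem ?_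
    rintro _ ⟨⟨l, r⟩, rfl⟩
    rw [← hV, conj_cj, ← add_assoc, ← mul_add]
    exact hVmem _ _
  have hall : ∀ m n : ℤ, Commute (cj A H m) (cj A H n) := by
    refine comm_of_invariant hVc (by simpa [cj_zero] using hVmem 0 0) ?_
    rw [hV]
    refine SL2Bounded.conj_closure_mem ?_
    rintro _ ⟨⟨k, r⟩, rfl⟩
    rw [← hV]
    show H * cj A H (((q : ℤ) + 1) * k + (r : ℕ)) * H⁻¹ ∈ V
    have e : H * cj A H (((q : ℤ) + 1) * k + (r : ℕ)) * H⁻¹ = cj A H (((q : ℤ) + 1) * k + ((r : ℕ) + 1)) := by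
      have e' := conj_cj A H 1 (((q : ℤ) + 1) * k + (r : ℕ))
      rw [zpow_one] at e'
      rw [e', add_comm 1, add_assoc]
    rw [e]
    fin_cases r
    · simpa using hVmem k 1
    · have := hVshift k _ ha2
      rw [conj_cj] at this
      simpa using this
  have hAp : A ^ p = 1 := by
    rw [hA, ← map_pow, hφ, Subgroup.coe_pow, ha']
    exact R.ap
  have hword : ∀ P : (ZMod p)[X], φ (word aN hN' P) = word A H P ∧ ((word aN hN' P : N) : G) = word a h P := by
    intro P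
    refine ⟨by rw [hA, hH]; exact map_word φ aN hN' P, ?_⟩
    calc ((word aN hN' P : N) : G) = word (N.subtype aN) (N.subtype hN') P := map_word N.subtype aN hN' P
      _ = _ := by rw [Subgroup.coe_subtype, ha', hh']
  have hAmin : word A H (minpoly (ZMod p) (kap σ ω : F)) = 1 := by
    rw [← (hword _).1, hφ, (hword _).2]
    exact R.amin
  have hgA : φ ⟨g, hUN hg⟩ ∈ Ugr A H := by
    let K : Subgroup G := ((Ugr A H).comap φ).map N.subtype
    have hK : Ugr a h ≤ K := by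
      refine (Subgroup.closure_le _).2 ?_
      rintro _ ⟨n, rfl⟩
      refine ⟨cj aN hN' n, ?_, hcj n⟩
      rw [SetLike.mem_coe, Subgroup.mem_comap, hφcj]
      exact Subgroup.subset_closure ⟨n, rfl⟩
    obtain ⟨x, hx, e⟩ := hK hg
    rw [show x = ⟨g, hUN hg⟩ from Subtype.ext e, SetLike.mem_coe, Subgroup.mem_comap] at hx
    exact hx
  obtain ⟨P, hP⟩ := mem_words (R.pos h3) hQH hAp (fun m n => hall m n) hgA
  refine ⟨P, ?_, fun e => ?_⟩
  · have : φ (⟨g, hUN hg⟩ * (word aN hN' P)⁻¹) = 1 := by rw [map_mul, map_inv, (hword P).1, hP, mul_inv_cancel]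
    have h2 := (hφ _).1 this
    rwa [Subgroup.coe_mul, Subgroup.coe_inv, (hword P).2] at h2
  · rw [← (hword P).2, ← hφ, (hword P).1,
      word_congr (fun m n => hall m n) hAp hAmin (Q := 0) (by rw [e, map_zero]), word_zero]

variable (hσ : Classical.Herm.IsInvol σ) (hcyc : ∀ x : Fˣ, x ∈ Subgroup.zpowers ω)
  (hq : Nat.card (Classical.Herm.fixedSub σ) = q) {f : G →* Matrix.SpecialLinearGroup (Fin 3) F} {b₀ : F}
  (hb₀ : b₀ + σ b₀ = -1) (hfa : f a = uMat σ (1, b₀)) (hfh : f h = dMat σ ω)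
include hσ hb₀ hfa hfh

omit [Fact p.Prime] h3 R in
theorem f_zel : f (zel a h) = uMat σ (0, (kap σ ω : F) - σ (kap σ ω : F)) := by
  simp only [zel, cmt, map_mul, map_inv, map_cj, hfa, hfh]
  exact comm_value hσ hb₀ ω

include hcyc hq in
theorem injective {g : G} (hg : g ∈ Ugr a h) (hfg : f g = 1) : g = 1 := by
  have hc : (kap σ ω : F) - σ (kap σ ω : F) ≠ 0 :=
    sub_ne_zero.2 (Ne.symm (kap_not_fixed hσ hcyc hq h3))
  have hzero : ∀ x ∈ Z0 a h, f x = 1 → x = 1 := by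
    intro x hx e
    obtain ⟨P, rfl⟩ := R.z_words h3 hx
    rw [map_word, hfh, f_zel hσ hb₀ hfa hfh, cen_word hσ, ← uMat_one σ] at e
    have := (congrArg Prod.snd (uMat_inj σ e))
    rw [word_congr (fun m n => R.z_comm h3 m n) R.zp R.zmin (Q := 0)
      (by rw [map_zero]; exact (mul_eq_zero.1 this).resolve_right hc), word_zero]
  obtain ⟨P, h1, h2⟩ := R.quotient_words h3 hg
  refine hzero g ?_ hfg
  obtain ⟨P', hP'⟩ := R.z_words h3 h1
  have e1 : First σ (f (g * (word a h P)⁻¹)) (-(aeval (kap σ ω : F) P * 1)) := by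
    rw [map_mul, map_inv, hfg, one_mul, map_word, hfa, hfh]
    exact first_inv hσ (first_word hσ ⟨b₀, by simpa using hb₀, rfl⟩ ω P)
  have e2 : First σ (f (g * (word a h P)⁻¹)) 0 := by
    rw [hP', map_word, hfh, f_zel hσ hb₀ hfa hfh, cen_word hσ]
    refine ⟨_, ?_, rfl⟩
    have hfix : σ (aeval (nu σ ω : F) P') = aeval (nu σ ω : F) P' := by
      rw [← Polynomial.aeval_map_algebraMap F] at *
      rw [Polynomial.aeval_def, Polynomial.hom_eval₂, Polynomial.eval₂_map, Polynomial.eval₂_map,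
        coe_nu, map_mul, hσ.invol, mul_comm (σ (ω : F))]
      congr 1
      exact RingHom.ext_zmod _ _
    rw [map_mul, map_sub, hσ.invol, hfix]
    simp
    ring
  have h0 : aeval (kap σ ω : F) P = 0 := by simpa using first_unique e1 e2
  have := mul_mem h1 (h2 h0)
  rwa [inv_mul_cancel_right] at this

include hcyc hq in
theorem exists_preimage (u : Pt σ) : ∃ g ∈ Ugr a h, f g = uMat σ u.1 := by
  obtain ⟨P, hP⟩ := exists_kap_poly (p := p) hσ hcyc hq h3 u.1.1
  have hU : ∀ n : ℕ, cj a h n ∈ Ugr a h := fun n => Subgroup.subset_closure ⟨n, rfl⟩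
  obtain ⟨b, hb, e⟩ := first_word hσ (α := (1 : F)) ⟨b₀, by simpa using hb₀, rfl⟩ ω P
  rw [mul_one, hP] at hb e
  have hu := u.2
  have hc : (kap σ ω : F) - σ (kap σ ω : F) ≠ 0 :=
    sub_ne_zero.2 (Ne.symm (kap_not_fixed hσ hcyc hq h3))
  obtain ⟨P', hP'⟩ := exists_nu_poly (p := p) hσ hcyc hq
    (u := (u.1.2 - b) / ((kap σ ω : F) - σ (kap σ ω : F))) (by
    rw [map_div₀, map_sub, map_sub, hσ.invol,
      show σ u.1.2 - σ b = -(u.1.2 - b) by linear_combination hu - hb, ← neg_sub (kap σ ω : F), neg_div_neg_eq])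
  have hZ : word (zel a h) h P' ∈ Z0 a h :=
    word_mem (K := Z0 a h) (fun n => Subgroup.subset_closure ⟨(n : ℤ), rfl⟩) P'
  refine ⟨word a h P * word (zel a h) h P', mul_mem (word_mem hU P) (R.z0_le h3 hZ), ?_⟩
  rw [map_mul, map_word, map_word, hfh, f_zel hσ hb₀ hfa hfh, cen_word hσ, hP', hfa, e,
    div_mul_cancel₀ _ hc, uMat_mul]
  congr 1
  exact Prod.ext (add_zero _) (by simp)

end Facts

end CfsgLib.Known.SU3Bounded
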