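import Cfsg.Agent.Lib.Known.SU3Bounded.Mat

/-!
# Rank one relation systems over the three-dimensional unitary group

The rank one relation `w x(u) w ∈ x(·) H(·) w x(·)` is inherited by products, so four of them imply all of them.
-/

set_option autoImplicit false

open Matrix

namespace CfsgLib.Known.SU3Bounded

variable {F : Type*} [Field F] {σ : F →+* F}

/-- the trivial parameter -/
def pzero : Pt σ := ⟨(0, 0), by simp⟩

/-- the product of parameters -/
def pmul (hσ : Classical.Herm.IsInvol σ) (u v : Pt σ) : Pt σ :=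
  ⟨(u.1.1 + v.1.1, u.1.2 + v.1.2 - u.1.1 * σ v.1.1), by
    have hu := u.2
    have hv := v.2
    simp only [map_add, map_sub, map_mul, hσ.invol]
    linear_combination hu + hv⟩

/-- the action of the torus on the parameters -/
def psmul (hσ : Classical.Herm.IsInvol σ) (t : Fˣ) (u : Pt σ) : Pt σ :=
  ⟨((t : F) ^ 2 / σ t * u.1.1, (t : F) * σ t * u.1.2), by
    have hu := u.2
    have := (map_ne_zero σ).2 t.ne_zero
    simp only [map_mul, map_div₀, map_pow, hσ.invol]
    field_simp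
    linear_combination hu⟩

/-- A group with root elements, torus and Weyl element. -/
structure Rank1 (σ : F →+* F) (G : Type*) [Group G] where
  x : Pt σ → G
  H : Fˣ →* G
  w : G
  f : G →* SpecialLinearGroup (Fin 3) F
  invol : Classical.Herm.IsInvol σ
  fx : ∀ u, f (x u) = uMat σ u.1
  fH : ∀ t, f (H t) = dMat σ t
  fw : f w = wMat
  x_mul : ∀ u v, x u * x v = x (pmul invol u v)
  hx : ∀ t u, H t * x u = x (psmul invol t u) * H t
  hw : ∀ t, w * H t = H (Units.map (σ : F →* F) t)⁻¹ * w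
  ww : w * w = 1
  gen : Subgroup.closure (Set.range x ∪ Set.range H ∪ {w}) = ⊤

namespace Rank1

variable {G : Type*} [Group G] (S : Rank1 σ G)

theorem x_zero : S.x pzero = 1 := by
  have h := S.x_mul pzero pzero
  rw [show pmul S.invol (pzero : Pt σ) pzero = pzero from Subtype.ext (by simp [pmul, pzero])] at h
  exact mul_eq_left.1 h

/-- the rank one relation at `u` -/
def Rel (u : Pt σ) : Prop := ∃ u₁ t u₂, S.w * S.x u * S.w = S.x u₁ * S.H t * S.w * S.x u₂

theorem x_H (u : Pt σ) (t : Fˣ) : S.x u * S.H t = S.H t * S.x (psmul S.invol t⁻¹ u) := by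
  have h := S.hx t (psmul S.invol t⁻¹ u)
  rw [h]
  congr 2
  refine Subtype.ext (Prod.ext ?_ ?_) <;>
    · have := t.ne_zero
      have : σ (t : F) ≠ 0 := (map_ne_zero σ).2 t.ne_zero
      simp [psmul]
      field_simp

theorem rel_smul {u : Pt σ} (t : Fˣ) (h : S.Rel u) : S.Rel (psmul S.invol t u) := by
  obtain ⟨u₁, s, u₂, e⟩ := h
  obtain ⟨r, hr⟩ : ∃ r, r = (Units.map (σ : F →* F) t)⁻¹ := ⟨_, rfl⟩
  have hwH : ∀ k, S.w * S.H k = S.H (Units.map (σ : F →* F) k)⁻¹ * S.w := S.hw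
  have hHw : (S.H t)⁻¹ * S.w = S.w * (S.H r)⁻¹ := by
    rw [inv_mul_eq_iff_eq_mul, ← mul_assoc, eq_mul_inv_iff_mul_eq]
    have h2 := hwH t
    rw [← hr] at h2
    calc S.w * S.H r = S.w * (S.H r * S.w) * S.w := by
          rw [show S.w * (S.H r * S.w) * S.w = S.w * S.H r * (S.w * S.w) by group, S.ww, mul_one]
      _ = S.w * (S.w * S.H t) * S.w := by rw [h2]
      _ = S.H t * S.w := by rw [← mul_assoc S.w S.w, S.ww, one_mul]
  have key : S.w * S.x (psmul S.invol t u) * S.w = S.H r * (S.w * S.x u * S.w) * (S.H r)⁻¹ := by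
    calc S.w * S.x (psmul S.invol t u) * S.w
        = S.w * (S.H t * S.x u * (S.H t)⁻¹) * S.w := by rw [S.hx, mul_inv_cancel_right]
      _ = (S.w * S.H t) * S.x u * ((S.H t)⁻¹ * S.w) := by group
      _ = _ := by rw [hwH t, ← hr, hHw]; group
  refine ⟨psmul S.invol r u₁, r * s * Units.map (σ : F →* F) r, psmul S.invol r u₂, ?_⟩
  rw [key, e]
  calc S.H r * (S.x u₁ * S.H s * S.w * S.x u₂) * (S.H r)⁻¹
      = (S.H r * S.x u₁) * S.H s * (S.w * (S.H r)⁻¹) * (S.H r * S.x u₂ * (S.H r)⁻¹) := by group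
    _ = _ := by
      rw [S.hx, S.hx r u₂, mul_inv_cancel_right, ← map_inv, hwH r⁻¹, map_mul, map_mul]
      simp only [map_inv, inv_inv]
      group

theorem rel_mul {u v u₁ u₂ v₁ v₂ : Pt σ} {t t' : Fˣ} (hu : S.w * S.x u * S.w = S.x u₁ * S.H t * S.w * S.x u₂)
    (hv : S.w * S.x v * S.w = S.x v₁ * S.H t' * S.w * S.x v₂) (hm : S.Rel (pmul S.invol u₂ v₁)) :
    S.Rel (pmul S.invol u v) := by
  obtain ⟨m₁, s, m₂, hm'⟩ := S.rel_smul t'⁻¹ hm
  obtain ⟨r, hr⟩ : ∃ r, r = t * (Units.map (σ : F →* F) t')⁻¹ := ⟨_, rfl⟩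
  refine ⟨pmul S.invol u₁ (psmul S.invol r m₁), r * s, pmul S.invol m₂ v₂, ?_⟩
  rw [← S.x_mul u v]
  calc S.w * (S.x u * S.x v) * S.w
      = (S.w * S.x u * S.w) * (S.w * S.x v * S.w) := by
        rw [show (S.w * S.x u * S.w) * (S.w * S.x v * S.w) = S.w * S.x u * (S.w * S.w) * S.x v * S.w by group,
          S.ww]
        group
    _ = S.x u₁ * S.H t * S.w * (S.x u₂ * S.x v₁ * S.H t') * S.w * S.x v₂ := by rw [hu, hv]; group
    _ = S.x u₁ * S.H t * (S.w * S.H t') * (S.x (psmul S.invol t'⁻¹ (pmul S.invol u₂ v₁)) * S.w) * S.x v₂ := by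
        rw [S.x_mul u₂ v₁, S.x_H (pmul S.invol u₂ v₁)]; group
    _ = S.x u₁ * (S.H r) * (S.w * S.x (psmul S.invol t'⁻¹ (pmul S.invol u₂ v₁)) * S.w) * S.x v₂ := by
        rw [S.hw, hr, map_mul]; group
    _ = S.x u₁ * (S.H r * S.x m₁) * S.H s * S.w * (S.x m₂ * S.x v₂) := by rw [hm']; group
    _ = _ := by rw [S.hx, S.x_mul, ← S.x_mul u₁, map_mul]; group

section Bruhat

variable (hall : ∀ u : Pt σ, u ≠ pzero → S.Rel u)

include hall

theorem bruhat (g : G) : (∃ u t, g = S.x u * S.H t) ∨ ∃ u t v, g = S.x u * S.H t * S.w * S.x v := by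
  let P : G → Prop := fun g => (∃ u t, g = S.x u * S.H t) ∨ ∃ u t v, g = S.x u * S.H t * S.w * S.x v
  show P g
  have hX : ∀ a g, P g → P (S.x a * g) := by
    rintro a g (⟨u, t, rfl⟩ | ⟨u, t, v, rfl⟩)
    · exact Or.inl ⟨pmul S.invol a u, t, by rw [← mul_assoc, S.x_mul]⟩
    · exact Or.inr ⟨pmul S.invol a u, t, v, by simp only [← mul_assoc, S.x_mul]⟩
  have hH : ∀ s g, P g → P (S.H s * g) := by
    rintro s g (⟨u, t, rfl⟩ | ⟨u, t, v, rfl⟩)
    · exact Or.inl ⟨psmul S.invol s u, s * t, by rw [← mul_assoc, S.hx, map_mul, mul_assoc]⟩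
    · exact Or.inr ⟨psmul S.invol s u, s * t, v, by simp only [← mul_assoc, S.hx, map_mul]⟩
  have hW : ∀ g, P g → P (S.w * g) := by
    rintro g (⟨u, t, rfl⟩ | ⟨u, t, v, rfl⟩)
    · refine Or.inr ⟨pzero, (Units.map (σ : F →* F) t)⁻¹, psmul S.invol t⁻¹ u, ?_⟩
      rw [S.x_zero, one_mul, ← S.hw, S.x_H, mul_assoc]
    · obtain ⟨r, hr⟩ : ∃ r, r = (Units.map (σ : F →* F) t)⁻¹ := ⟨_, rfl⟩
      by_cases hu : u = pzero
      · refine Or.inl ⟨psmul S.invol r v, r, ?_⟩
        rw [hu, S.x_zero, one_mul, ← S.hx, show S.w * (S.H t * S.w * S.x v) = S.w * S.H t * (S.w * S.x v) by group,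
          S.hw, ← hr]
        rw [show S.H r * S.w * (S.w * S.x v) = S.H r * (S.w * S.w) * S.x v by group, S.ww, mul_one]
      · obtain ⟨u₁, s, u₂, e⟩ := hall u hu
        refine Or.inr ⟨u₁, s * (Units.map (σ : F →* F) r)⁻¹, pmul S.invol (psmul S.invol r⁻¹ u₂) v, ?_⟩
        have hHw : S.H t * S.w = S.w * S.H r := by
          have h2 := S.hw t
          rw [← hr] at h2
          calc S.H t * S.w = S.w * (S.w * S.H t) * S.w := by rw [← mul_assoc S.w S.w, S.ww, one_mul]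
            _ = S.w * S.H r * (S.w * S.w) := by rw [h2]; group
            _ = _ := by rw [S.ww, mul_one]
        calc S.w * (S.x u * S.H t * S.w * S.x v) = S.w * S.x u * (S.H t * S.w) * S.x v := by group
          _ = (S.w * S.x u * S.w) * S.H r * S.x v := by rw [hHw]; group
          _ = S.x u₁ * S.H s * S.w * (S.x u₂ * S.H r) * S.x v := by rw [e]; group
          _ = S.x u₁ * S.H s * (S.w * S.H r) * (S.x (psmul S.invol r⁻¹ u₂) * S.x v) := by rw [S.x_H u₂]; group
          _ = _ := by rw [S.hw, S.x_mul, map_mul]; group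
  have hinvX : ∀ a, ∃ b, (S.x a)⁻¹ = S.x b := fun a =>
    ⟨⟨(-a.1.1, σ a.1.2), by
      have := a.2
      simp only [map_neg, S.invol.invol]
      linear_combination this⟩, by
      refine (eq_inv_of_mul_eq_one_right ?_).symm
      rw [S.x_mul, ← S.x_zero]
      congr 1
      have := a.2
      refine Subtype.ext (Prod.ext ?_ ?_) <;> simp [pmul, pzero, map_neg]
      linear_combination this⟩
  have hg : g ∈ Subgroup.closure (Set.range S.x ∪ Set.range S.H ∪ {S.w}) := S.gen ▸ Subgroup.mem_top g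
  induction hg using Subgroup.closure_induction_left with
  | one => exact Or.inl ⟨pzero, 1, by rw [S.x_zero, map_one, one_mul]⟩
  | mul_left a ha b _ hb =>
    rcases ha with (⟨u, rfl⟩ | ⟨t, rfl⟩) | rfl
    exacts [hX u b hb, hH t b hb, hW b hb]
  | inv_mul_cancel a ha b _ hb =>
    rcases ha with (⟨u, rfl⟩ | ⟨t, rfl⟩) | rfl
    · obtain ⟨c, hc⟩ := hinvX u
      rw [hc]; exact hX c b hb
    · rw [← map_inv]; exact hH _ b hb
    · rw [inv_eq_of_mul_eq_one_right S.ww]; exact hW b hb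

theorem injective : Function.Injective S.f := by
  refine (injective_iff_map_eq_one S.f).2 fun g hg => ?_
  rcases S.bruhat hall g with ⟨u, t, rfl⟩ | ⟨u, t, v, rfl⟩
  · rw [map_mul, S.fx, S.fH] at hg
    have e := fun i j => congrArg (fun m : SpecialLinearGroup (Fin 3) F => m.1 i j) hg
    have e00 := e 0 0
    simp [coe_uMat, coe_dMat, Matrix.mul_apply, Fin.sum_univ_three] at e00
    have ht : t = 1 := Units.ext (by simpa using e00)
    subst ht
    have hu : uMat σ u.1 = uMat σ (pzero : Pt σ).1 := by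
      rw [show (pzero : Pt σ).1 = (0, 0) from rfl, uMat_one, ← hg, ← dHom_apply, map_one, mul_one]
    rw [Subtype.ext (uMat_inj σ hu), S.x_zero, map_one, one_mul]
  · rw [map_mul, map_mul, map_mul, S.fx, S.fH, S.fw, S.fx] at hg
    have e := congrArg (fun m : SpecialLinearGroup (Fin 3) F => m.1 2 0) hg
    simp [coe_uMat, coe_dMat, coe_wMat, Matrix.mul_apply, Fin.sum_univ_three] at e

end Bruhat

theorem range_eq : S.f.range = AU σ := by
  refine le_antisymm ?_ fun g hg => ?_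
  · rw [MonoidHom.range_eq_map, ← S.gen, MonoidHom.map_closure, Subgroup.closure_le]
    rintro _ ⟨a, ((⟨u, rfl⟩ | ⟨t, rfl⟩) | rfl), rfl⟩
    · rw [S.fx]; exact uMat_mem S.invol u.2
    · rw [S.fH]; exact dMat_mem S.invol t
    · rw [S.fw]; exact wMat_mem
  · rcases decompose S.invol hg with ⟨u, t, hu, rfl⟩ | ⟨u, t, v, hu, hv, rfl⟩
    · exact ⟨S.x ⟨u, hu⟩ * S.H t, by rw [map_mul, S.fx, S.fH]⟩
    · exact ⟨S.x ⟨u, hu⟩ * S.H t * S.w * S.x ⟨v, hv⟩, by simp only [map_mul, S.fx, S.fH, S.fw]⟩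

/-- the data of the rank one relation read off in the matrix group -/
theorem values {u u₁ u₂ : Pt σ} {t : Fˣ} (h : S.w * S.x u * S.w = S.x u₁ * S.H t * S.w * S.x u₂) :
    σ u₁.1.1 * u.1.2 = -σ u.1.1 ∧ u₁.1.2 * u.1.2 = 1 ∧ u₂.1.1 * u.1.2 = -u.1.1 ∧ u₂.1.2 * u.1.2 = 1 := by
  have h' := congrArg S.f h
  simp only [map_mul, S.fx, S.fH, S.fw] at h'
  have e := fun i j => congrArg (fun m : SpecialLinearGroup (Fin 3) F => m.1 i j) h'
  have h00 := e 0 0
  have h10 := e 1 0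
  have h20 := e 2 0
  have h21 := e 2 1
  have h22 := e 2 2
  simp [coe_uMat, coe_dMat, coe_wMat, Matrix.mul_apply, Fin.sum_univ_three] at h00 h10 h20 h21 h22
  rw [h20]
  refine ⟨?_, ?_, ?_, ?_⟩
  · linear_combination h10
  · linear_combination -h00
  · linear_combination -h21
  · linear_combination -h22

end Rank1

end CfsgLib.Known.SU3Bounded
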