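import Cfsg.Agent.Lib.Known.SU3Bounded.RankOne

/-!
# Four rank one relations imply all of them
-/

set_option autoImplicit false

open Matrix

namespace CfsgLib.Known.SU3Bounded

variable {F : Type*} [Field F] {σ : F →+* F}

namespace Rank1

variable {G : Type*} [Group G] (S : Rank1 σ G)

theorem rel_center [Finite F] {z : Pt σ} (hz1 : z.1.1 = 0) (hz : z.1.2 ≠ 0) (hR : S.Rel z) {u : Pt σ}
    (hu1 : u.1.1 = 0) (hu : u.1.2 ≠ 0) : S.Rel u := by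
  have h1 := z.2
  have h2 := u.2
  rw [hz1, zero_mul, neg_zero, add_eq_zero_iff_eq_neg'] at h1
  rw [hu1, zero_mul, neg_zero, add_eq_zero_iff_eq_neg'] at h2
  obtain ⟨t, ht⟩ := S.invol.exists_norm_eq (μ := u.1.2 / z.1.2) (by rw [map_div₀, h1, h2, neg_div_neg_eq])
  have ht0 : t ≠ 0 := by
    rintro rfl
    rw [zero_mul] at ht
    exact div_ne_zero hu hz ht.symm
  have e : psmul S.invol (Units.mk0 t ht0) z = u := Subtype.ext (Prod.ext (by simp [psmul, hz1, hu1]) (by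
    simp only [psmul, Units.val_mk0, ht]
    rw [div_mul_cancel₀ _ hz]))
  exact e ▸ S.rel_smul _ hR

section

variable [Finite F] {δ : F} (hδ0 : δ ≠ 0) (hδ : σ δ = -δ) {ω : Fˣ} (hcyc : ∀ x : Fˣ, x ∈ Subgroup.zpowers ω)

include S hcyc in
theorem omega_ne : σ (ω : F) ≠ ω := fun e => by
  obtain ⟨a, ha⟩ := S.invol.exists_ne
  rcases eq_or_ne a 0 with rfl | h0
  · exact ha (map_zero σ)
  obtain ⟨k, hk⟩ : ∃ k : ℕ, ω ^ k = Units.mk0 a h0 := mem_powers_iff_mem_zpowers.2 (hcyc _)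
  refine ha ?_
  rw [← Units.val_mk0 h0, ← hk, Units.val_pow_eq_pow_val, map_pow, e]

include hδ0 hδ hcyc in
theorem rel_first (hbase : ∀ r < 3, ∃ u : Pt σ, u.1.1 = (ω : F) ^ r ∧
      σ (u.1.2 / (δ * ω)) = u.1.2 / (δ * ω) ∧ S.Rel u)
    {u : Pt σ} (ha : u.1.1 ≠ 0) (hb : σ (u.1.2 / (δ * ω)) = u.1.2 / (δ * ω)) : S.Rel u := by
  obtain ⟨e, he⟩ : ∃ k : ℕ, ω ^ k = Units.mk0 _ ha := mem_powers_iff_mem_zpowers.2 (hcyc _)
  obtain ⟨v, hv1, hv2, hR⟩ := hbase (e % 3) (Nat.mod_lt _ (by norm_num))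
  obtain ⟨i, hi⟩ : ∃ i, i = e / 3 := ⟨_, rfl⟩
  obtain ⟨q, hq⟩ : ∃ q, q = Nat.card (Classical.Herm.fixedSub σ) := ⟨_, rfl⟩
  obtain ⟨Q, hQ⟩ : ∃ Q, Q + 1 = q ^ 2 := ⟨q ^ 2 - 1, by
    have : 0 < Nat.card F := Nat.card_pos
    rw [S.invol.card_sq, ← hq] at this
    omega⟩
  have hω : ω ^ Q = 1 := by
    rw [← orderOf_dvd_iff_pow_eq_one, orderOf_eq_card_of_forall_mem_zpowers hcyc, Nat.card_units,
      S.invol.card_sq, ← hq, ← hQ, Nat.add_sub_cancel]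
  obtain ⟨t, ht⟩ : ∃ t : Fˣ, t = ω ^ (i * (q + 2)) := ⟨_, rfl⟩
  have hσt : σ (t : F) ≠ 0 := (map_ne_zero σ).2 t.ne_zero
  have hκ : (t : F) ^ 2 / σ t = (ω : F) ^ (3 * i) := by
    rw [div_eq_iff hσt, S.invol.apply_eq_pow, ← hq, ← Units.val_pow_eq_pow_val, ← Units.val_pow_eq_pow_val,
      ← Units.val_pow_eq_pow_val, ← Units.val_mul, ht, ← pow_mul, ← pow_mul, ← pow_add]
    have : 3 * i + i * (q + 2) * q = i * (q + 2) * 2 + Q * i := by
      have h1 : i * (Q + 1) = i * q ^ 2 := by rw [hQ]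
      nlinarith [h1]
    rw [this, pow_add, pow_mul ω Q, hω, one_pow, mul_one]
  have e1 : (psmul S.invol t v).1.1 = u.1.1 := by
    show (t : F) ^ 2 / σ t * v.1.1 = u.1.1
    rw [hκ, hv1, ← pow_add, hi, Nat.div_add_mod, ← Units.val_pow_eq_pow_val, he, Units.val_mk0]
  have hd : δ * (ω : F) ≠ 0 := mul_ne_zero hδ0 ω.ne_zero
  obtain ⟨l, hl⟩ : ∃ l, l = (psmul S.invol t v).1.2 / (δ * ω) := ⟨_, rfl⟩
  obtain ⟨m, hm⟩ : ∃ m, m = u.1.2 / (δ * ω) := ⟨_, rfl⟩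
  have hlf : σ l = l := by
    rw [hl, show (psmul S.invol t v).1.2 = (t : F) * σ t * v.1.2 from rfl, mul_div_assoc, map_mul, hv2,
      map_mul, S.invol.invol, mul_comm (σ (t : F))]
  rw [← hm] at hb
  have t1 := (psmul S.invol t v).2
  have t2 := u.2
  rw [e1, (eq_div_iff hd).1 hl |>.symm, map_mul, hlf, map_mul, hδ] at t1
  rw [(eq_div_iff hd).1 hm |>.symm, map_mul, hb, map_mul, hδ] at t2
  have key : (l - m) * (δ * ((ω : F) - σ ω)) = 0 := by linear_combination t1 - t2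
  have hlm : l = m := by
    rcases mul_eq_zero.1 key with h | h
    · exact sub_eq_zero.1 h
    · exact absurd (sub_eq_zero.1 ((mul_eq_zero.1 h).resolve_left hδ0)).symm (S.omega_ne hcyc)
  have e2 : psmul S.invol t v = u := Subtype.ext (Prod.ext e1 (by
    rw [← (eq_div_iff hd).1 hl, ← (eq_div_iff hd).1 hm, hlm]))
  exact e2 ▸ S.rel_smul t hR

include hδ0 hδ hcyc in
theorem rel_all (hz : ∃ z : Pt σ, z.1.1 = 0 ∧ z.1.2 ≠ 0 ∧ S.Rel z)
    (hbase : ∀ r < 3, ∃ u : Pt σ, u.1.1 = (ω : F) ^ r ∧ σ (u.1.2 / (δ * ω)) = u.1.2 / (δ * ω) ∧ S.Rel u)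
    (u : Pt σ) (hu : u ≠ pzero) : S.Rel u := by
  have trace : ∀ v : Pt σ, v.1.1 ≠ 0 → σ (v.1.2 / δ) ≠ v.1.2 / δ := fun v ha e => by
    rw [map_div₀, hδ, div_neg, neg_eq_iff_eq_neg, ← neg_div, div_left_inj' hδ0] at e
    have := v.2
    rw [e, add_neg_cancel, eq_comm, neg_eq_zero, mul_eq_zero, map_eq_zero, or_self] at this
    exact ha this
  suffices main : ∀ k : ℕ, ∀ v : Pt σ, v.1.1 ≠ 0 →
      σ (v.1.2 / (δ * (ω : F) ^ (k + 1))) = v.1.2 / (δ * (ω : F) ^ (k + 1)) → S.Rel v by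
    by_cases ha : u.1.1 = 0
    · obtain ⟨z, z1, z2, zR⟩ := hz
      refine S.rel_center z1 z2 zR ha fun hb => hu (Subtype.ext (Prod.ext ha hb))
    · have hb : u.1.2 ≠ 0 := fun e => trace u ha (by rw [e, zero_div, map_zero])
      obtain ⟨k, hk⟩ : ∃ k : ℕ, ω ^ k = Units.mk0 (u.1.2 / δ) (div_ne_zero hb hδ0) :=
        mem_powers_iff_mem_zpowers.2 (hcyc _)
      have hk' : (ω : F) ^ k = u.1.2 / δ := by rw [← Units.val_pow_eq_pow_val, hk, Units.val_mk0]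
      rcases k with _ | k
      · exact absurd (by rw [← hk', pow_zero, map_one]) (trace u ha)
      · refine main k u ha ?_
        rw [← div_div, ← hk', div_self (pow_ne_zero _ ω.ne_zero), map_one]
  intro k
  induction k with
  | zero => intro v ha hb; exact S.rel_first hδ0 hδ hcyc hbase ha (by simpa using hb)
  | succ k ih =>
    intro v ha hb
    obtain ⟨w₁, hw₁⟩ : ∃ w₁, w₁ = (ω : F) ^ (k + 1) := ⟨_, rfl⟩
    have hw₁0 : w₁ ≠ 0 := hw₁ ▸ pow_ne_zero _ ω.ne_zero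
    obtain ⟨Y, hY⟩ : ∃ Y, Y = v.1.2 / δ := ⟨_, rfl⟩
    obtain ⟨l₀, hl₀⟩ : ∃ l₀, l₀ = v.1.2 / (δ * (ω : F) ^ (k + 1 + 1)) := ⟨_, rfl⟩
    rw [← hl₀] at hb
    have hY0 : Y = l₀ * ω * w₁ := by
      have := pow_ne_zero (k + 1) ω.ne_zero
      have := ω.ne_zero
      rw [hY, hl₀, hw₁, pow_succ _ (k + 1)]
      field_simp
    have hYne : σ Y ≠ Y := hY ▸ trace v ha
    by_cases hs : σ w₁ = w₁
    · refine S.rel_first hδ0 hδ hcyc hbase ha ?_
      have : v.1.2 / (δ * (ω : F)) = l₀ * w₁ := by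
        rw [← div_div, ← hY, hY0]
        field_simp
      rw [this, map_mul, hb, hs]
    have hden : w₁ - σ w₁ ≠ 0 := sub_ne_zero.2 (Ne.symm hs)
    obtain ⟨l, hl⟩ : ∃ l, l = (Y - σ Y) / (w₁ - σ w₁) := ⟨_, rfl⟩
    obtain ⟨m, hm⟩ : ∃ m, m = Y - l * w₁ := ⟨_, rfl⟩
    have hlf : σ l = l := by
      rw [hl, map_div₀, map_sub, map_sub, S.invol.invol, S.invol.invol, ← neg_sub Y, ← neg_sub w₁, neg_div_neg_eq]
    have hmf : σ m = m := by
      have h1 : l * (w₁ - σ w₁) = Y - σ Y := by rw [hl, div_mul_cancel₀ _ hden]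
      rw [hm, map_sub, map_mul, hlf]
      linear_combination h1
    have hl0 : l ≠ 0 := by
      rw [hl]
      exact div_ne_zero (sub_ne_zero.2 (Ne.symm hYne)) hden
    have hm0 : m ≠ 0 := fun e => by
      rw [e, eq_comm, sub_eq_zero, hY0] at hm
      have hl00 : l₀ ≠ 0 := fun e => hYne (by rw [hY0, e]; simp)
      have : (ω : F) = l / l₀ := by
        rw [eq_div_iff hl00, mul_comm]
        exact mul_right_cancel₀ hw₁0 hm
      exact S.omega_ne hcyc (by rw [this, map_div₀, hlf, hb])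
    obtain ⟨a, ha'⟩ : ∃ a, a = v.1.1 := ⟨_, rfl⟩
    have hv := v.2
    have hvb : v.1.2 = δ * (l * w₁) + δ * m := by
      rw [hm, hY]
      field_simp
      ring
    let u' : Pt σ := ⟨(a, δ * (l * w₁)), by
      rw [hvb, ← ha', map_add, map_mul σ δ m, hδ, hmf] at hv
      linear_combination hv⟩
    let z : Pt σ := ⟨(0, δ * m), by rw [map_mul, hδ, hmf]; simp⟩
    have hprod : pmul S.invol u' z = v := Subtype.ext (Prod.ext (by simp [pmul, u', z, ha']) (by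
      simp [pmul, u', z, hvb]))
    have hu'R : S.Rel u' := ih u' (show a ≠ 0 from fun e => ha (ha' ▸ e)) (by
      show σ (δ * (l * w₁) / (δ * (ω : F) ^ (k + 1))) = δ * (l * w₁) / (δ * (ω : F) ^ (k + 1))
      rw [← hw₁, show δ * (l * w₁) / (δ * w₁) = l by field_simp, hlf])
    obtain ⟨z0, z1, z2, zR⟩ := hz
    have hzR : S.Rel z := S.rel_center z1 z2 zR rfl (mul_ne_zero hδ0 hm0)
    obtain ⟨u₁, t, u₂, eu⟩ := hu'R
    obtain ⟨v₁, t', v₂, ev⟩ := hzR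
    obtain ⟨-, -, hu2a, hu2b⟩ := S.values eu
    obtain ⟨hv1a, hv1b, -, -⟩ := S.values ev
    simp only [u', z, map_zero, neg_zero, mul_eq_zero, map_eq_zero, mul_ne_zero hδ0 hm0, or_false] at hu2a hu2b hv1a hv1b
    have hu20 : u₂.1.1 ≠ 0 := fun e => by
      rw [e, zero_mul, eq_comm, neg_eq_zero] at hu2a
      exact ha (ha' ▸ hu2a)
    rw [← hprod]
    refine S.rel_mul eu ev (S.rel_first hδ0 hδ hcyc hbase ?_ ?_)
    · simpa [pmul, hv1a] using hu20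
    · have hlw : δ * (l * w₁) ≠ 0 := mul_ne_zero hδ0 (mul_ne_zero hl0 hw₁0)
      have hmid : (pmul S.invol u₂ v₁).1.2 / (δ * (ω : F)) = l₀ / (δ ^ 2 * l * m) := by
        show (u₂.1.2 + v₁.1.2 - u₂.1.1 * σ v₁.1.1) / (δ * (ω : F)) = _
        have e1 : u₂.1.2 = (δ * (l * w₁))⁻¹ := eq_inv_of_mul_eq_one_left hu2b
        have e2 : v₁.1.2 = (δ * m)⁻¹ := eq_inv_of_mul_eq_one_left hv1b
        have e3 : l * w₁ + m = l₀ * ω * w₁ := by rw [← hY0, hm]; ring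
        have := ω.ne_zero
        rw [hv1a, map_zero, e1, e2]
        field_simp
        linear_combination e3
      rw [hmid, map_div₀, map_mul, map_mul, map_pow, hδ, neg_sq, hlf, hmf, hb]

end

end Rank1

end CfsgLib.Known.SU3Bounded
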