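import Cfsg.Agent.Lib.Known.SU3Bounded.Radical
import Cfsg.Agent.Lib.Known.SU3Bounded.Spread
import Cfsg.Agent.Lib.Known.SL2Bounded.Params

/-!
# The relators of `SU₃` and the group they present
-/

set_option autoImplicit false

open Polynomial
open CfsgLib.Known.SL2Bounded (cj cj_zero cj_pow conj_cj map_cj word map_word word_mem)

namespace CfsgLib.Known.SU3Bounded

/-- first generator -/
def ga : FreeGroup (Fin 3) := FreeGroup.of 0
/-- second generator -/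
def gh : FreeGroup (Fin 3) := FreeGroup.of 1
/-- third generator -/
def gw : FreeGroup (Fin 3) := FreeGroup.of 2

variable {F : Type*} [Field F]

/-- evaluation in the matrix group -/
def ev (σ : F →+* F) (ω : Fˣ) (b₀ : F) : FreeGroup (Fin 3) →* Matrix.SpecialLinearGroup (Fin 3) F :=
  FreeGroup.lift ![uMat σ (1, b₀), dMat σ ω, wMat]

theorem ev_ga (σ : F →+* F) (ω : Fˣ) (b₀ : F) : ev σ ω b₀ ga = uMat σ (1, b₀) := FreeGroup.lift_apply_of
theorem ev_gh (σ : F →+* F) (ω : Fˣ) (b₀ : F) : ev σ ω b₀ gh = dMat σ ω := FreeGroup.lift_apply_of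
theorem ev_gw (σ : F →+* F) (ω : Fˣ) (b₀ : F) : ev σ ω b₀ gw = wMat := FreeGroup.lift_apply_of

theorem cj_mem_ugr {G : Type*} [Group G] (a h : G) (n : ℤ) : cj a h n ∈ Ugr a h := Subgroup.subset_closure ⟨n, rfl⟩

theorem zel_cj_mem {G : Type*} [Group G] (a h : G) (n : ℤ) : cj (zel a h) h n ∈ Ugr a h := by
  have e : cj (zel a h) h n = cmt (cj a h n) (cj a h (n + 1)) := by
    rw [zel, ← conj_cj a h n 1]
    simp only [cj, cmt]
    group
  have hm := cj_mem_ugr a h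
  rw [e]
  exact mul_mem (mul_mem (mul_mem (hm _) (hm _)) (inv_mem (hm _))) (inv_mem (hm _))

variable [Finite F] {p : ℕ} [Fact p.Prime] [Algebra (ZMod p) F] {σ : F →+* F} (hσ : Classical.Herm.IsInvol σ)
  {ω : Fˣ} (hcyc : ∀ x : Fˣ, x ∈ Subgroup.zpowers ω) {q : ℕ} (hq : Nat.card (Classical.Herm.fixedSub σ) = q)
  (h3 : 3 ≤ q) {b₀ : F} (hb₀ : b₀ + σ b₀ = -1)
include hσ hcyc hq h3 hb₀

omit hcyc hq h3 [Finite F] [Fact p.Prime] [Algebra (ZMod p) F] in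
theorem ev_zel : ev σ ω b₀ (zel ga gh) = uMat σ (0, (kap σ ω : F) - σ (kap σ ω : F)) := by
  simp only [zel, cmt, map_mul, map_inv, map_cj, ev_ga, ev_gh]
  exact comm_value hσ hb₀ ω

omit [Fact p.Prime] [Algebra (ZMod p) F] hb₀ in
theorem delta_ne : (kap σ ω : F) - σ (kap σ ω : F) ≠ 0 :=
  sub_ne_zero.2 (Ne.symm (kap_not_fixed hσ hcyc hq h3))

/-- a correcting central word -/
theorem exists_corr {g : FreeGroup (Fin 3)} (hg : First σ (ev σ ω b₀ g) 0) :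
    ∃ P : (ZMod p)[X], ev σ ω b₀ (g * (word (zel ga gh) gh P)⁻¹) = 1 := by
  obtain ⟨c, hc, e⟩ := hg
  rw [zero_mul, neg_zero, add_eq_zero_iff_eq_neg'] at hc
  obtain ⟨P, hP⟩ := exists_nu_poly (p := p) hσ hcyc hq
    (u := c / ((kap σ ω : F) - σ (kap σ ω : F))) (by
    rw [map_div₀, map_sub, hσ.invol, hc, ← neg_sub (kap σ ω : F), neg_div_neg_eq])
  refine ⟨P, ?_⟩
  rw [map_mul, map_inv, map_word, ev_zel hσ hb₀, ev_gh, cen_word hσ, hP, div_mul_cancel₀ _ (delta_ne hσ hcyc hq h3),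
    e, mul_inv_cancel]

/-- a word for every element of the radical -/
theorem exists_uword (p : ℕ) [Fact p.Prime] [Algebra (ZMod p) F] (u : Pt σ) : ∃ v : FreeGroup (Fin 3), ev σ ω b₀ v = uMat σ u.1 ∧
    ∀ (G : Type) [Group G] (π : FreeGroup (Fin 3) →* G), π v ∈ Ugr (π ga) (π gh) := by
  obtain ⟨P, hP⟩ := exists_kap_poly (p := p) hσ hcyc hq h3 u.1.1
  have h1 : First σ (ev σ ω b₀ ga) 1 := ⟨b₀, by simpa using hb₀, ev_ga σ ω b₀⟩
  obtain ⟨b, hb, e⟩ : First σ (ev σ ω b₀ (word ga gh P)) u.1.1 := by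
    have := first_word hσ h1 ω P
    rw [mul_one, hP] at this
    rwa [map_word, ev_gh]
  obtain ⟨P', hP'⟩ := exists_nu_poly (p := p) hσ hcyc hq
    (u := (u.1.2 - b) / ((kap σ ω : F) - σ (kap σ ω : F))) (by
    have hu := u.2
    rw [map_div₀, map_sub, map_sub, hσ.invol,
      show σ u.1.2 - σ b = -(u.1.2 - b) by linear_combination hu - hb, ← neg_sub (kap σ ω : F), neg_div_neg_eq])
  refine ⟨word ga gh P * word (zel ga gh) gh P', ?_, fun G _ π => ?_⟩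
  · rw [map_mul, e, map_word, ev_zel hσ hb₀, ev_gh, cen_word hσ, hP',
      div_mul_cancel₀ _ (delta_ne hσ hcyc hq h3), uMat_mul]
    congr 1
    exact Prod.ext (add_zero _) (by simp)
  · rw [map_mul, map_word, map_word]
    refine mul_mem (word_mem (fun n => cj_mem_ugr _ _ _) P) ?_
    rw [show π (zel ga gh) = zel (π ga) (π gh) by simp [zel, cmt, map_cj]]
    exact word_mem (fun n => zel_cj_mem _ _ _) P'

omit h3 hb₀ [Fact p.Prime] [Algebra (ZMod p) F] in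
theorem exists_exp (t : Fˣ) : ∃ k : ℕ, ω ^ k = t := mem_powers_iff_mem_zpowers.2 (hcyc _)

/-- the rank one relator at a given element -/
theorem exists_relator (p : ℕ) [Fact p.Prime] [Algebra (ZMod p) F] (u : Pt σ) (hu : u.1.2 ≠ 0) : ∃ v v₁ v₂ : FreeGroup (Fin 3), ∃ k : ℕ,
    ev σ ω b₀ (gw * v * gw * (v₁ * gh ^ k * gw * v₂)⁻¹) = 1 ∧ ev σ ω b₀ v = uMat σ u.1 ∧
    ∀ (G : Type) [Group G] (π : FreeGroup (Fin 3) →* G),
      π v ∈ Ugr (π ga) (π gh) ∧ π v₁ ∈ Ugr (π ga) (π gh) ∧ π v₂ ∈ Ugr (π ga) (π gh) := by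
  have hmem : wMat * uMat σ u.1 * wMat ∈ AU σ :=
    mul_mem (mul_mem (wMat_mem) (uMat_mem hσ u.2)) wMat_mem
  rcases decompose hσ hmem with ⟨u₁, t, -, e⟩ | ⟨u₁, t, u₂, h1, h2, e⟩
  · exfalso
    have := congrArg (fun m : Matrix.SpecialLinearGroup (Fin 3) F => m.1 2 0) e
    simp [coe_uMat, coe_dMat, coe_wMat, Matrix.mul_apply, Fin.sum_univ_three] at this
    exact hu this
  obtain ⟨k, hk⟩ := exists_exp (q := q) hσ hcyc hq t
  obtain ⟨v, hv, hvm⟩ := exists_uword hσ hcyc hq h3 hb₀ p u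
  obtain ⟨v₁, hv₁, hv₁m⟩ := exists_uword hσ hcyc hq h3 hb₀ p ⟨u₁, h1⟩
  obtain ⟨v₂, hv₂, hv₂m⟩ := exists_uword hσ hcyc hq h3 hb₀ p ⟨u₂, h2⟩
  refine ⟨v, v₁, v₂, k, ?_, hv, fun G _ π => ⟨hvm G π, hv₁m G π, hv₂m G π⟩⟩
  simp only [map_mul, map_inv, map_pow, ev_gw, ev_gh, hv, hv₁, hv₂]
  rw [← dHom_apply, ← map_pow, hk, dHom_apply, mul_inv_eq_one]
  exact e

/-- the relators of the Borel subgroup -/
theorem exists_borel_rels : ∃ L : List (FreeGroup (Fin 3)), L.length ≤ 16 ∧ (∀ r ∈ L, ev σ ω b₀ r = 1) ∧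
    ∀ (G : Type) [Group G] (π : FreeGroup (Fin 3) →* G), (∀ r ∈ L, π r = 1) →
      Facts p σ ω q (π ga) (π gh) := by
  classical
  have := SL2Bounded.charP_F (F := F) (p := p)
  obtain ⟨δ, hδ⟩ : ∃ δ, δ = (kap σ ω : F) - σ (kap σ ω : F) := ⟨_, rfl⟩
  have hδ' : σ δ = -δ := by rw [hδ, map_sub, hσ.invol]; ring
  have hz : ev σ ω b₀ (zel ga gh) = uMat σ (0, δ) := hδ ▸ ev_zel hσ hb₀
  have hF : ∀ n : ℤ, First σ (ev σ ω b₀ (cj ga gh n)) (((kap σ ω ^ n : Fˣ) : F)) := fun n => by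
    have := first_cj hσ (α := (1 : F)) ⟨b₀, by simpa using hb₀, ev_ga σ ω b₀⟩ ω n
    rw [mul_one] at this
    rwa [map_cj, ev_gh]
  have hzcj : ∀ n : ℤ, ev σ ω b₀ (cj (zel ga gh) gh n) = uMat σ (0, ((nu σ ω ^ n : Fˣ) : F) * δ) := fun n => by
    rw [map_cj, hz, ev_gh, cen_cj hσ]
  have hmulF : ∀ {x y : FreeGroup (Fin 3)} {α β : F}, First σ (ev σ ω b₀ x) α → First σ (ev σ ω b₀ y) β →
      First σ (ev σ ω b₀ (x * y⁻¹)) (α - β) := fun hx hy => by
    rw [map_mul, map_inv, sub_eq_add_neg]; exact first_mul hσ hx (first_inv hσ hy)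
  have hkap : ∀ n : ℤ, First σ (ev σ ω b₀ ga) 1 → ∀ P : (ZMod p)[X],
      First σ (ev σ ω b₀ (word ga (gh ^ n) P)) (aeval ((kap σ ω ^ n : Fˣ) : F) P) := fun n h1 P => by
    have := first_word hσ h1 (ω ^ n) P
    rw [mul_one, kap_zpow] at this
    rwa [map_word, map_zpow, ev_gh, ← dHom_apply, ← map_zpow, dHom_apply]
  have h1 : First σ (ev σ ω b₀ ga) 1 := ⟨b₀, by simpa using hb₀, ev_ga σ ω b₀⟩
  have hconj : ∀ (n : ℤ) {g : FreeGroup (Fin 3)} {α : F}, First σ (ev σ ω b₀ g) α →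
      First σ (ev σ ω b₀ (gh ^ n * g * (gh ^ n)⁻¹)) (((kap σ ω ^ n : Fˣ) : F) * α) := fun n g α hg => by
    have := first_cj hσ hg ω n
    simp only [cj] at this
    rwa [map_mul, map_mul, map_inv, map_zpow, ev_gh]
  have hq1 : kap σ ω ^ ((q : ℤ) + 1) = nu σ ω := by
    rw [← kap_zpow, show (q : ℤ) + 1 = ((q + 1 : ℕ) : ℤ) by push_cast; rfl, zpow_natCast, ← nu_eq hσ hq]
    refine Units.ext ?_
    have := (map_ne_zero σ).2 ω.ne_zero
    have := ω.ne_zero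
    rw [coe_kap, coe_nu, map_mul, hσ.invol]
    field_simp
  -- a^3
  obtain ⟨P3, hP3⟩ := exists_rho_poly (p := p) hσ hcyc hq h3 ((kap σ ω : F) ^ 3)
  have hρ : ((kap σ ω ^ ((q : ℤ) - 1) : Fˣ) : F) = (kap σ ω : F) ^ (q - 1) := by
    rw [show (q : ℤ) - 1 = ((q - 1 : ℕ) : ℤ) by omega, zpow_natCast, Units.val_pow_eq_pow_val]
  obtain ⟨W3, hW3⟩ : ∃ W, W = word ga (gh ^ ((q : ℤ) - 1)) (P3 0) *
      (gh ^ (1 : ℤ) * word ga (gh ^ ((q : ℤ) - 1)) (P3 1) * (gh ^ (1 : ℤ))⁻¹) *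
      (gh ^ (2 : ℤ) * word ga (gh ^ ((q : ℤ) - 1)) (P3 2) * (gh ^ (2 : ℤ))⁻¹) := ⟨_, rfl⟩
  have hW3F : First σ (ev σ ω b₀ (cj ga gh 3 * W3⁻¹)) 0 := by
    have e := hmulF (hF 3) (α := ((kap σ ω ^ (3 : ℤ) : Fˣ) : F)) (y := W3) (β := (kap σ ω : F) ^ 3) (by
      rw [hW3, hP3, Fin.sum_univ_three, map_mul, map_mul]
      refine first_mul hσ (first_mul hσ ?_ ?_) ?_
      · simpa [hρ] using hkap ((q : ℤ) - 1) h1 (P3 0)
      · have := hconj 1 (hkap ((q : ℤ) - 1) h1 (P3 1))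
        simpa [hρ, mul_comm] using this
      · have := hconj 2 (hkap ((q : ℤ) - 1) h1 (P3 2))
        simpa [hρ, mul_comm, zpow_ofNat] using this)
    simpa [zpow_ofNat] using e
  obtain ⟨C3, hC3⟩ := exists_corr (p := p) hσ hcyc hq h3 hb₀ hW3F
  -- a^p
  have hpF : First σ (ev σ ω b₀ (ga ^ p)) 0 := by
    have := first_pow hσ h1 p
    rwa [CharP.cast_eq_zero, zero_mul, ← map_pow] at this
  obtain ⟨Cp, hCp⟩ := exists_corr (p := p) hσ hcyc hq h3 hb₀ hpF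
  -- commutators
  have hcmt : ∀ m n : ℤ, First σ (ev σ ω b₀ (cmt (cj ga gh m) (cj ga gh n))) 0 := fun m n => by
    have := first_mul hσ (first_mul hσ (first_mul hσ (hF m) (hF n)) (first_inv hσ (hF m))) (first_inv hσ (hF n))
    simp only [cmt, map_mul, map_inv]
    convert this using 1
    ring
  obtain ⟨Ca, hCa⟩ := exists_corr (p := p) hσ hcyc hq h3 hb₀ (hcmt ((q : ℤ) + 1) 0)
  obtain ⟨Cb, hCb⟩ := exists_corr (p := p) hσ hcyc hq h3 hb₀ (hcmt ((q : ℤ) + 1) 1)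
  -- a^2
  obtain ⟨P0, P1, hP2⟩ := exists_line_poly (p := p) hσ hcyc hq h3 ((kap σ ω : F) ^ 2)
  obtain ⟨W2, hW2⟩ : ∃ W, W = word ga (gh ^ ((q : ℤ) + 1)) P0 *
      (gh ^ (1 : ℤ) * word ga (gh ^ ((q : ℤ) + 1)) P1 * (gh ^ (1 : ℤ))⁻¹) := ⟨_, rfl⟩
  have hW2F : First σ (ev σ ω b₀ (cj ga gh 2 * W2⁻¹)) 0 := by
    have e := hmulF (hF 2) (α := ((kap σ ω ^ (2 : ℤ) : Fˣ) : F)) (y := W2) (β := (kap σ ω : F) ^ 2) (by
      rw [hW2, hP2, map_mul]
      refine first_mul hσ ?_ ?_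
      · simpa [hq1] using hkap ((q : ℤ) + 1) h1 P0
      · have := hconj 1 (hkap ((q : ℤ) + 1) h1 P1)
        simpa [hq1, mul_comm] using this)
    simpa [zpow_ofNat] using e
  obtain ⟨C2, hC2⟩ := exists_corr (p := p) hσ hcyc hq h3 hb₀ hW2F
  -- minimal polynomial
  have hmF : First σ (ev σ ω b₀ (word ga gh (minpoly (ZMod p) (kap σ ω : F)))) 0 := by
    have := hkap 1 h1 (minpoly (ZMod p) (kap σ ω : F))
    simpa [minpoly.aeval] using this
  obtain ⟨Cm, hCm⟩ := exists_corr (p := p) hσ hcyc hq h3 hb₀ hmF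
  -- the periodicity relators
  obtain ⟨Lj, hLjlen, hLjev, hLj⟩ : ∃ Lj : List (FreeGroup (Fin 3)), Lj.length ≤ 2 ∧ (∀ r ∈ Lj, ev σ ω b₀ r = 1) ∧
      ∀ (G : Type) [Group G] (π : FreeGroup (Fin 3) →* G), (∀ r ∈ Lj, π r = 1) →
        ((∃ j : ℕ, cj (zel (π ga) (π gh)) (π gh) j =
            zel (π ga) (π gh) * cj (zel (π ga) (π gh)) (π gh) 1) ∨ q = 3) ∧
        ((∃ j : ℕ, cj (π ga) (π gh) (((q : ℤ) + 1) * j) * (π ga * cj (π ga) (π gh) ((q : ℤ) + 1))⁻¹ ∈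
            Z0 (π ga) (π gh)) ∨ q = 3) := by
    rcases one_add_nu hσ hcyc hq with ⟨j, hj⟩ | hq3
    · have hjF : First σ (ev σ ω b₀ (cj ga gh (((q : ℤ) + 1) * j) * (ga * cj ga gh ((q : ℤ) + 1))⁻¹)) 0 := by
        have e := hmulF (hF (((q : ℤ) + 1) * j)) (α := ((kap σ ω ^ (((q : ℤ) + 1) * j) : Fˣ) : F))
          (y := ga * cj ga gh ((q : ℤ) + 1)) (β := 1 + ((kap σ ω ^ ((q : ℤ) + 1) : Fˣ) : F)) (by
          rw [map_mul]; exact first_mul hσ h1 (hF _))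
        rw [_root_.zpow_mul, hq1, zpow_natCast, Units.val_pow_eq_pow_val, hj, sub_self] at e
        exact e
      obtain ⟨Cj, hCj⟩ := exists_corr (p := p) hσ hcyc hq h3 hb₀ hjF
      refine ⟨[cj (zel ga gh) gh j * (zel ga gh * cj (zel ga gh) gh 1)⁻¹,
        cj ga gh (((q : ℤ) + 1) * j) * (ga * cj ga gh ((q : ℤ) + 1))⁻¹ * (word (zel ga gh) gh Cj)⁻¹],
        le_rfl, ?_, fun G _ π hr => ?_⟩
      · simp only [List.mem_cons, List.not_mem_nil, or_false, forall_eq_or_imp, forall_eq]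
        refine ⟨?_, hCj⟩
        simp only [map_mul, map_inv, hzcj, hz, cen_mul, mul_inv_eq_one, zpow_natCast, zpow_one]
        rw [Units.val_pow_eq_pow_val, hj]
        congr 1
        exact Prod.ext rfl (by ring)
      · simp only [List.mem_cons, List.not_mem_nil, or_false, forall_eq_or_imp, forall_eq, map_mul, map_inv,
          mul_inv_eq_one, map_cj, map_word] at hr
        rw [show π (zel ga gh) = zel (π ga) (π gh) by simp [zel, cmt, map_cj]] at hr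
        refine ⟨Or.inl ⟨j, hr.1⟩, Or.inl ⟨j, ?_⟩⟩
        rw [hr.2]
        exact word_mem (K := Z0 (π ga) (π gh)) (fun n => Subgroup.subset_closure ⟨(n : ℤ), rfl⟩) Cj
    · have : q = 3 := le_antisymm hq3 h3
      exact ⟨[], by simp, by simp, fun G _ π _ => ⟨Or.inr this, Or.inr this⟩⟩
  let L : List (FreeGroup (Fin 3)) :=
    [gh ^ (q ^ 2 - 1), zel ga gh ^ p, word (zel ga gh) gh (minpoly (ZMod p) (nu σ ω : F)),
      cmt (cj (zel ga gh) gh 1) (zel ga gh), cmt (gh ^ ((q : ℤ) - 1)) (zel ga gh),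
      cmt ga (zel ga gh), cmt (cj ga gh 1) (zel ga gh), cmt (cj ga gh 2) (zel ga gh),
      cj ga gh 3 * W3⁻¹ * (word (zel ga gh) gh C3)⁻¹, ga ^ p * (word (zel ga gh) gh Cp)⁻¹,
      cmt (cj ga gh ((q : ℤ) + 1)) (cj ga gh 0) * (word (zel ga gh) gh Ca)⁻¹,
      cmt (cj ga gh ((q : ℤ) + 1)) (cj ga gh 1) * (word (zel ga gh) gh Cb)⁻¹,
      cj ga gh 2 * W2⁻¹ * (word (zel ga gh) gh C2)⁻¹,
      word ga gh (minpoly (ZMod p) (kap σ ω : F)) * (word (zel ga gh) gh Cm)⁻¹] ++ Lj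
  refine ⟨L, by simp [L]; omega, ?_, fun G _ π hπ => ?_⟩
  · intro r hr
    rcases List.mem_append.1 hr with hr | hr
    swap
    · exact hLjev r hr
    have hdMat : ∀ n : ℤ, ev σ ω b₀ (gh ^ n) = dMat σ (ω ^ n) := fun n => by
      rw [map_zpow, ev_gh, ← dHom_apply, ← map_zpow, dHom_apply]
    have hcen : ∀ n : ℤ, ev σ ω b₀ (cmt (cj ga gh n) (zel ga gh)) = 1 := fun n => by
      obtain ⟨b, -, e⟩ := hF n
      simp only [cmt, map_mul, map_inv, e, hz]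
      rw [mul_inv_eq_one, mul_inv_eq_iff_eq_mul, uMat_mul, uMat_mul]
      congr 1
      exact Prod.ext (add_comm _ _) (by simp [add_comm])
    simp only [List.mem_cons, List.not_mem_nil, or_false] at hr
    rcases hr with rfl | rfl | rfl | rfl | rfl | rfl | rfl | rfl | rfl | rfl | rfl | rfl | rfl | rfl
    · rw [map_pow, ev_gh, ← dHom_apply, ← map_pow, ← orderOf_omega hσ hcyc hq, pow_orderOf_eq_one, map_one]
    · rw [map_pow, hz, cen_pow, CharP.cast_eq_zero, zero_mul, uMat_one]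
    · rw [map_word, hz, ev_gh, cen_word hσ, minpoly.aeval, zero_mul, uMat_one]
    · simp only [cmt, map_mul, map_inv, hzcj, hz]
      rw [mul_inv_eq_one, mul_inv_eq_iff_eq_mul, cen_mul, cen_mul, add_comm]
    · simp only [cmt, map_mul, map_inv, hz, hdMat, dMat_conj hσ]
      rw [mul_inv_eq_one]
      congr 1
      refine Prod.ext (mul_zero _) ?_
      rw [← coe_nu, show nu σ (ω ^ ((q : ℤ) - 1)) = 1 from ?_, Units.val_one, one_mul]
      rw [show (q : ℤ) - 1 = ((q - 1 : ℕ) : ℤ) by omega, zpow_natCast, nu, map_omega hσ hq |> fun e => (by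
        rw [map_pow, e] : Units.map (σ : F →* F) (ω ^ (q - 1)) = (ω ^ q) ^ (q - 1)), ← pow_mul, ← pow_add,
        ← orderOf_dvd_iff_pow_eq_one, orderOf_omega hσ hcyc hq]
      exact dvd_of_eq (by
        obtain ⟨r, rfl⟩ : ∃ r, q = r + 1 := ⟨q - 1, by omega⟩
        rw [Nat.add_sub_cancel, Nat.sub_eq_iff_eq_add (Nat.one_le_pow _ _ (by omega))]
        ring)
    · simpa [cj_zero] using hcen 0
    · exact hcen 1
    · exact hcen 2
    · exact hC3
    · exact hCp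
    · exact hCa
    · exact hCb
    · exact hC2
    · exact hCm
  · have hz' : π (zel ga gh) = zel (π ga) (π gh) := by simp [zel, cmt, map_cj]
    have hmemZ : ∀ P : (ZMod p)[X], word (zel (π ga) (π gh)) (π gh) P ∈ Z0 (π ga) (π gh) := fun P =>
      word_mem (K := Z0 (π ga) (π gh)) (fun n => Subgroup.subset_closure ⟨(n : ℤ), rfl⟩) P
    obtain ⟨hz1, hz2⟩ := hLj G π fun r hr => hπ r (List.mem_append_right _ hr)
    have hL : ∀ r ∈ L, π r = 1 := hπ
    simp only [L, List.mem_append, List.mem_cons, List.not_mem_nil, or_false, or_imp, forall_and, forall_eq] at hL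
    obtain ⟨⟨r1, r2, r3, r4, r5, r6, r7, r8, r9, r10, r11, r12, r13, r14⟩, -⟩ := hL
    simp only [map_mul, map_inv, map_pow, map_zpow, map_word, map_cj, cmt, hz'] at r1 r2 r3 r4 r5 r6 r7 r8 r9 r10 r11 r12 r13 r14
    have memS : ∀ (i : Fin 3) (P : (ZMod p)[X]), π gh ^ ((i : ℕ) : ℤ) * word (π ga) (π gh ^ ((q : ℤ) - 1)) P *
        (π gh ^ ((i : ℕ) : ℤ))⁻¹ ∈ S0 (π ga) (π gh) q := by
      intro i P
      have := word_mem (a := π ga) (h := π gh ^ ((q : ℤ) - 1))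
        (K := (S0 (π ga) (π gh) q).comap (MulAut.conj (π gh ^ ((i : ℕ) : ℤ))).toMonoidHom) (fun n => by
        rw [Subgroup.mem_comap, MulEquiv.coe_toMonoidHom, MulAut.conj_apply, cj_pow, conj_cj, add_comm]
        exact Subgroup.mem_sup_left (Subgroup.subset_closure ⟨((n : ℤ), i), rfl⟩)) P
      rwa [Subgroup.mem_comap, MulEquiv.coe_toMonoidHom, MulAut.conj_apply] at this
    have memL : ∀ (i : ℕ) (P : (ZMod p)[X]), π gh ^ (i : ℤ) * word (π ga) (π gh ^ ((q : ℤ) + 1)) P *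
        (π gh ^ (i : ℤ))⁻¹ ∈ Line (π ga) (π gh) q i := by
      intro i P
      have := word_mem (a := π ga) (h := π gh ^ ((q : ℤ) + 1))
        (K := (Line (π ga) (π gh) q i).comap (MulAut.conj (π gh ^ (i : ℤ))).toMonoidHom) (fun n => by
        rw [Subgroup.mem_comap, MulEquiv.coe_toMonoidHom, MulAut.conj_apply, cj_pow, conj_cj, add_comm]
        exact Subgroup.subset_closure ⟨(n : ℤ), rfl⟩) P
      rwa [Subgroup.mem_comap, MulEquiv.coe_toMonoidHom, MulAut.conj_apply] at this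
    refine ⟨r1, r2, r3, hz1, cmt_eq_one r4, cmt_eq_one r5, ?_, ?_, ?_, hz2, ?_, ?_, ?_, ?_⟩
    · intro r
      fin_cases r
      · simpa [cj_zero] using cmt_eq_one r6
      · simpa using cmt_eq_one r7
      · simpa using cmt_eq_one r8
    · rw [show cj (π ga) (π gh) 3 = word (zel (π ga) (π gh)) (π gh) C3 * π W3 by
        rw [← mul_inv_eq_iff_eq_mul]; exact mul_inv_eq_one.1 r9]
      refine mul_mem (Subgroup.mem_sup_right (hmemZ C3)) ?_
      rw [hW3]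
      simp only [map_mul, map_inv, map_word, map_zpow]
      refine mul_mem (mul_mem ?_ ?_) ?_
      · simpa using memS 0 (P3 0)
      · simpa using memS 1 (P3 1)
      · simpa using memS 2 (P3 2)
    · rw [mul_inv_eq_one.1 r10]; exact hmemZ Cp
    · have := mul_inv_eq_one.1 r11
      rw [cj_zero] at this
      rw [cmt, this]; exact hmemZ Ca
    · rw [cmt, mul_inv_eq_one.1 r12]; exact hmemZ Cb
    · rw [show cj (π ga) (π gh) 2 = word (zel (π ga) (π gh)) (π gh) C2 * π W2 by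
        rw [← mul_inv_eq_iff_eq_mul]; exact mul_inv_eq_one.1 r13]
      refine mul_mem (Subgroup.mem_sup_right (hmemZ C2)) ?_
      rw [hW2]
      simp only [map_mul, map_inv, map_word, map_zpow]
      refine mul_mem (Subgroup.mem_sup_left (Subgroup.mem_sup_left ?_))
        (Subgroup.mem_sup_left (Subgroup.mem_sup_right ?_))
      · simpa using memL 0 P0
      · simpa using memL 1 P1
    · rw [mul_inv_eq_one.1 r14]; exact hmemZ Cm

end CfsgLib.Known.SU3Bounded
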